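import Groth.Agent.Lib.DedekindCont25.Weight
import Mathlib.NumberTheory.NumberField.DedekindZeta

/-!
# Continuation of the Dedekind zeta function to `re s > 1 - 1/d`
-/

set_option autoImplicit false

namespace Groth.Agent.DedekindCont25

open NumberField NumberField.mixedEmbedding NumberField.Units Module MeasureTheory Complex Filter Topology
open NumberField.mixedEmbedding.fundamentalCone
open scoped nonZeroDivisors

variable (K : Type*) [Field K] [NumberField K]

/-- The sum over the ideals in one class continues. -/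
theorem exists_class_continuation (C : ClassGroup (𝓞 K)) :
    ∃ G : ℂ → ℂ, DifferentiableOn ℂ G {s | 1 - 1 / (finrank ℚ K : ℝ) < s.re} ∧
      ∀ s : ℂ, 1 < s.re → ∃ S : ℂ, G s = (s - 1) * S ∧
        HasSum (fun I : {I : (Ideal (𝓞 K))⁰ // ClassGroup.mk0 I = C} =>
          ((Ideal.absNorm (I.1 : Ideal (𝓞 K)) : ℕ) : ℂ) ^ (-s)) S ∧
        Summable (fun I : {I : (Ideal (𝓞 K))⁰ // ClassGroup.mk0 I = C} =>
          ((Ideal.absNorm (I.1 : Ideal (𝓞 K)) : ℕ) : ℝ) ^ (-s.re)) := by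
  classical
  obtain ⟨J, hJ⟩ := ClassGroup.mk0_surjective C⁻¹
  set b := fractionalIdealLatticeBasis K (FractionalIdeal.mk0 K J) with hb
  have hdim : finrank ℝ (mixedSpace K) = finrank ℚ K := mixedEmbedding.finrank K
  obtain ⟨hsum, G, hG, hGeq⟩ := (coneWeight K).continuation b (by rw [hdim]; exact finrank_pos)
  rw [hdim] at hG
  -- a generator of each product
  have hp : ∀ I : {I : (Ideal (𝓞 K))⁰ // ClassGroup.mk0 I = C},
      ∃ g : 𝓞 K, (J : Ideal (𝓞 K)) * I.1 = Ideal.span {g} := fun I => by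
    have h : ClassGroup.mk0 (J * I.1) = 1 := by rw [map_mul, hJ, I.2, inv_mul_cancel]
    obtain ⟨g, hg⟩ := ((ClassGroup.mk0_eq_one_iff (J * I.1).2).1 h).principal
    exact ⟨g, hg⟩
  choose g hg using hp
  have hg0 : ∀ I, g I ≠ 0 := fun I h => by
    have := hg I
    rw [h, Ideal.span_singleton_eq_bot.2 rfl] at this
    exact nonZeroDivisors.coe_ne_zero (J * I.1) this
  have hmem : ∀ I (u : (𝓞 K)ˣ), mixedEmbedding K ((u * g I : 𝓞 K) : K) ∈ Submodule.span ℤ (Set.range b) := fun I u => by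
    rw [mem_span_fractionalIdealLatticeBasis, FractionalIdeal.coe_mk0]
    refine ⟨_, FractionalIdeal.mem_coeIdeal_of_mem _ ?_, rfl⟩
    refine Ideal.mul_mem_left _ _ (Ideal.mul_le_left (I := (J : Ideal (𝓞 K))) (J := I.1) ?_)
    rw [hg I]; exact Ideal.mem_span_singleton_self _
  let Φ : {I : (Ideal (𝓞 K))⁰ // ClassGroup.mk0 I = C} × (𝓞 K)ˣ → Submodule.span ℤ (Set.range b) :=
    fun p => ⟨_, hmem p.1 p.2⟩
  have hΦ : Function.Injective Φ := fun p q h => by
    have h' : (p.2 * g p.1 : 𝓞 K) = q.2 * g q.1 :=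
      RingOfIntegers.ext (mixedEmbedding_injective K (congrArg Subtype.val h))
    have hI : p.1 = q.1 := by
      have hs : Ideal.span {g p.1} = Ideal.span {g q.1} := by
        rw [← Ideal.span_singleton_mul_left_unit p.2.isUnit, ← Ideal.span_singleton_mul_left_unit q.2.isUnit (g q.1), h']
      rw [← hg, ← hg] at hs
      exact Subtype.ext (Subtype.ext (mul_left_cancel₀ (nonZeroDivisors.coe_ne_zero J) hs))
    refine Prod.ext hI ?_
    rw [hI] at h'
    exact Units.ext (mul_right_cancel₀ (hg0 _) h')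
  set N := fun I : {I : (Ideal (𝓞 K))⁰ // ClassGroup.mk0 I = C} => Ideal.absNorm (I.1 : Ideal (𝓞 K)) with hN
  set NJ := Ideal.absNorm (J : Ideal (𝓞 K)) with hNJ
  have hNpos : ∀ I, 0 < N I := fun I => Ideal.absNorm_pos_of_nonZeroDivisors I.1
  have hJpos : 0 < NJ := Ideal.absNorm_pos_of_nonZeroDivisors J
  have hnorm : ∀ I, mixedEmbedding.norm (mixedEmbedding K ((g I : 𝓞 K) : K)) = ((NJ * N I : ℕ) : ℝ) := fun I => by
    rw [norm_eq_norm, ← Algebra.coe_norm_int, hNJ, hN, ← map_mul, ← Submonoid.coe_mul]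
    rw [show ((J * I.1 : (Ideal (𝓞 K))⁰) : Ideal (𝓞 K)) = Ideal.span {g I} from hg I,
      Ideal.absNorm_span_singleton]
    simp
  have hFval : ∀ I (u : (𝓞 K)ˣ) (s : ℂ), (coneWeight K).F s (Φ (I, u)) =
      (unitWeight K (u • mixedEmbedding K ((g I : 𝓞 K) : K)) : ℂ) * ((NJ * N I : ℕ) : ℂ) ^ (-s) := fun I u s => by
    have e : (Φ (I, u) : mixedSpace K) = u • mixedEmbedding K ((g I : 𝓞 K) : K) := by
      rw [unitSMul_smul, ← map_mul]
      rfl
    rw [ConeWeight.F, e]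
    have hne : ((NJ * N I : ℕ) : ℂ) ≠ 0 := Nat.cast_ne_zero.2 (Nat.mul_pos hJpos (hNpos I)).ne'
    congr 1
    rw [cpow_def_of_ne_zero hne, ← natCast_log]
    show cexp (-s * (Real.log (mixedEmbedding.norm (u • mixedEmbedding K ((g I : 𝓞 K) : K))) : ℂ)) = _
    rw [norm_unit_smul, hnorm, mul_comm]
  have hrange : ∀ v : Submodule.span ℤ (Set.range b), v ∉ Set.range Φ → ∀ s, (coneWeight K).F s v = 0 := by
    intro v hv s
    by_contra hne
    obtain ⟨_, hy, e⟩ := (mem_span_fractionalIdealLatticeBasis K (FractionalIdeal.mk0 K J)).1 v.2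
    rw [FractionalIdeal.coe_mk0] at hy
    obtain ⟨a, ha, rfl⟩ := (FractionalIdeal.mem_coeIdeal _).1 hy
    have ha0 : a ≠ 0 := by
      rintro rfl
      rw [map_zero, map_zero] at e
      refine hne ?_
      rw [← e]
      simp [ConeWeight.F, (coneWeight K).w_zero]
    obtain ⟨I, hI⟩ := Ideal.dvd_iff_le.2 ((Ideal.span_singleton_le_iff_mem _).2 ha)
    have hI0 : I ≠ 0 := fun h => ha0 (Ideal.span_singleton_eq_bot.1 (by rw [hI, h, mul_zero]; rfl))
    have hIC : ClassGroup.mk0 ⟨I, mem_nonZeroDivisors_of_ne_zero hI0⟩ = C := by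
      have h1 : ClassGroup.mk0 (J * ⟨I, mem_nonZeroDivisors_of_ne_zero hI0⟩) = 1 := by
        rw [ClassGroup.mk0_eq_one_iff (J * _).2]
        exact ⟨a, by simpa using hI.symm⟩
      rw [map_mul, hJ, inv_mul_eq_one] at h1
      exact h1.symm
    obtain ⟨u, hu⟩ := Ideal.span_singleton_eq_span_singleton.1 ((hg ⟨_, hIC⟩).symm.trans hI.symm)
    refine hv ⟨(⟨_, hIC⟩, u), Subtype.ext ?_⟩
    rw [← e]
    show mixedEmbedding K _ = mixedEmbedding K _
    rw [mul_comm, hu]
  have key : ∀ s : ℂ, 1 < s.re → HasSum (fun I => (torsionOrder K : ℂ) * ((NJ * N I : ℕ) : ℂ) ^ (-s))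
      (∑' v : Submodule.span ℤ (Set.range b), (coneWeight K).F s v) := fun s hs => by
    refine HasSum.prod_fiberwise (((hΦ.hasSum_iff fun v hv => hrange v hv s).2 (hsum s hs).of_norm.hasSum).congr_fun
      fun p => rfl) fun I => ?_
    refine (HasSum.mul_right _ ?_).congr_fun fun u => hFval I u s
    have h := hasSum_unitWeight (x := mixedEmbedding K ((g I : 𝓞 K) : K))
      (by rw [hnorm]; exact_mod_cast (Nat.mul_pos hJpos (hNpos I)).ne')
    have h2 := Complex.hasSum_ofReal.2 h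
    rw [ofReal_natCast] at h2
    exact h2
  have hw : (torsionOrder K : ℂ) ≠ 0 := Nat.cast_ne_zero.2 (torsionOrder_ne_zero K)
  have hmul : ∀ (s : ℂ) I, ((NJ * N I : ℕ) : ℂ) ^ (-s) = (NJ : ℂ) ^ (-s) * (N I : ℂ) ^ (-s) := fun s I => by
    push_cast; rw [natCast_mul_natCast_cpow]
  have hJne : (NJ : ℂ) ≠ 0 := Nat.cast_ne_zero.2 hJpos.ne'
  refine ⟨fun s => ((NJ : ℂ) ^ s / torsionOrder K) * G s, ?_, fun s hs => ?_⟩
  · exact (((differentiable_id.const_cpow (Or.inl hJne)).div_const _).differentiableOn).mul hG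
  have hS : HasSum (fun I => (N I : ℂ) ^ (-s))
      (((NJ : ℂ) ^ s / torsionOrder K) * ∑' v : Submodule.span ℤ (Set.range b), (coneWeight K).F s v) := by
    refine ((key s hs).mul_left _).congr_fun fun I => ?_
    rw [hmul, cpow_neg (NJ : ℂ) s]
    field_simp [hw, cpow_ne_zero_iff, hJne]
  refine ⟨_, by show _ * G s = _; rw [hGeq s hs]; ring, hS, ?_⟩
  refine hS.summable.norm.congr fun I => ?_
  rw [norm_natCast_cpow_of_pos (hNpos I), neg_re]

/-- The Dedekind zeta function is the sum over the nonzero ideals, and continues. -/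
theorem exists_dedekindZeta_continuation :
    (∀ s : ℂ, 1 < s.re → HasSum (fun I : (Ideal (𝓞 K))⁰ =>
      ((Ideal.absNorm (I : Ideal (𝓞 K)) : ℕ) : ℂ) ^ (-s)) (dedekindZeta K s)) ∧
    (∀ σ : ℝ, 1 < σ → Summable fun I : (Ideal (𝓞 K))⁰ => ((Ideal.absNorm (I : Ideal (𝓞 K)) : ℕ) : ℝ) ^ (-σ)) ∧
    ∃ G : ℂ → ℂ, DifferentiableOn ℂ G {s | 1 - 1 / (finrank ℚ K : ℝ) < s.re} ∧
      (∀ s : ℂ, 1 < s.re → G s = (s - 1) * dedekindZeta K s) ∧ G 1 ≠ 0 := by
  classical
  choose GC hGC hC using exists_class_continuation K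
  have hall : ∀ s : ℂ, 1 < s.re → ∃ S : ℂ, ∑ C, GC C s = (s - 1) * S ∧
      HasSum (fun I : (Ideal (𝓞 K))⁰ => ((Ideal.absNorm (I : Ideal (𝓞 K)) : ℕ) : ℂ) ^ (-s)) S := fun s hs => by
    choose S hS1 hS2 hS3 using fun C => hC C s hs
    refine ⟨∑ C, S C, by rw [Finset.mul_sum]; exact Finset.sum_congr rfl fun C _ => hS1 C, ?_⟩
    refine (hasSum_sum fun C _ => (hasSum_subtype_iff_indicator
      (f := fun I : (Ideal (𝓞 K))⁰ => ((Ideal.absNorm (I : Ideal (𝓞 K)) : ℕ) : ℂ) ^ (-s))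
      (s := {I | ClassGroup.mk0 I = C})).1 (hS2 C)).congr_fun fun I => ?_
    simp [Set.indicator_apply]
  have hzeta : ∀ (s S : ℂ), HasSum (fun I : (Ideal (𝓞 K))⁰ => ((Ideal.absNorm (I : Ideal (𝓞 K)) : ℕ) : ℂ) ^ (-s)) S →
      HasSum (LSeries.term (fun n => (Nat.card {I : Ideal (𝓞 K) // Ideal.absNorm I = n} : ℂ)) s) S := fun s S h => by
    refine ((Equiv.sigmaFiberEquiv fun I : (Ideal (𝓞 K))⁰ => Ideal.absNorm (I : Ideal (𝓞 K))).hasSum_iff.2 h).sigma
      fun n => ?_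
    haveI : Finite {I : Ideal (𝓞 K) // Ideal.absNorm I = n} := (Ideal.finite_setOfPred_absNorm_eq n).to_subtype
    letI : Fintype {I : (Ideal (𝓞 K))⁰ // Ideal.absNorm (I : Ideal (𝓞 K)) = n} :=
      @Fintype.ofFinite _ (Finite.of_injective
        (fun I => (⟨(I.1 : Ideal (𝓞 K)), I.2⟩ : {I : Ideal (𝓞 K) // Ideal.absNorm I = n}))
        (fun a b e => Subtype.ext (Subtype.ext (congrArg (fun x => x.1) e)))
        (β := {I : Ideal (𝓞 K) // Ideal.absNorm I = n}))
    convert hasSum_fintype _ using 1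
    simp only [Function.comp_apply, Equiv.sigmaFiberEquiv_apply]
    rw [Finset.sum_congr rfl fun I _ => by rw [show Ideal.absNorm ((I.1 : (Ideal (𝓞 K))⁰) : Ideal (𝓞 K)) = n from I.2],
      Finset.sum_const, Finset.card_univ, ← Nat.card_eq_fintype_card, nsmul_eq_mul]
    rcases eq_or_ne n 0 with rfl | hn
    · rw [LSeries.term_zero]
      haveI : IsEmpty {I : (Ideal (𝓞 K))⁰ // Ideal.absNorm (I : Ideal (𝓞 K)) = 0} :=
        ⟨fun I => Ideal.absNorm_ne_zero_of_nonZeroDivisors I.1 I.2⟩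
      simp
    · rw [LSeries.term_of_ne_zero hn, cpow_neg, div_eq_mul_inv]
      congr 2
      refine (Nat.card_congr ?_).symm
      exact
        { toFun := fun I => ⟨(I.1 : Ideal (𝓞 K)), I.2⟩
          invFun := fun I => ⟨⟨I.1, mem_nonZeroDivisors_of_ne_zero fun h => hn (by rw [← I.2, h]; simp)⟩, I.2⟩
          left_inv := fun I => rfl
          right_inv := fun I => rfl }
  have hsum : ∀ s : ℂ, 1 < s.re → HasSum (fun I : (Ideal (𝓞 K))⁰ =>
      ((Ideal.absNorm (I : Ideal (𝓞 K)) : ℕ) : ℂ) ^ (-s)) (dedekindZeta K s) := fun s hs => by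
    obtain ⟨S, -, hS⟩ := hall s hs
    rwa [show dedekindZeta K s = S from (hzeta s S hS).tsum_eq]
  refine ⟨hsum, fun σ hσ => ?_, fun s => ∑ C, GC C s, ?_, fun s hs => ?_, ?_⟩
  · refine (hsum σ (by simpa using hσ)).summable.norm.congr fun I => ?_
    rw [norm_natCast_cpow_of_pos (Ideal.absNorm_pos_of_nonZeroDivisors I), neg_re, ofReal_re]
  · exact DifferentiableOn.fun_sum fun C _ => hGC C
  · obtain ⟨S, hS, hS'⟩ := hall s hs
    show ∑ C, GC C s = _
    rw [hS, (hsum s hs).unique hS']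
  · show ∑ C, GC C 1 ≠ 0
    have hcont : ContinuousAt (fun s : ℂ => ∑ C, GC C s) 1 := by
      refine ((DifferentiableOn.fun_sum fun C _ => hGC C).differentiableAt
        ((isOpen_lt continuous_const continuous_re).mem_nhds ?_)).continuousAt
      show 1 - 1 / (finrank ℚ K : ℝ) < (1 : ℂ).re
      have : (0 : ℝ) < finrank ℚ K := Nat.cast_pos.2 finrank_pos
      simp [this]
    have h1 : Tendsto (fun t : ℝ => ∑ C, GC C (t : ℂ)) (𝓝[>] (1 : ℝ)) (𝓝 (∑ C, GC C 1)) := by
      refine (hcont.tendsto.comp ?_).mono_left nhdsWithin_le_nhds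
      have := (continuous_ofReal.tendsto (1 : ℝ)); simpa using this
    have h2 : Tendsto (fun t : ℝ => ∑ C, GC C (t : ℂ)) (𝓝[>] (1 : ℝ)) (𝓝 (dedekindZeta_residue K : ℂ)) := by
      refine (tendsto_sub_one_mul_dedekindZeta_nhdsGT K).congr' ?_
      filter_upwards [self_mem_nhdsWithin] with t ht
      obtain ⟨S, hS, hS'⟩ := hall (t : ℂ) (by simpa using ht)
      rw [hS, (hsum t (by simpa using ht)).unique hS']
    rw [tendsto_nhds_unique h1 h2]
    exact ofReal_ne_zero.2 (dedekindZeta_residue_ne_zero K)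

end Groth.Agent.DedekindCont25
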