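import Groth.Agent.Lib.Zeta25.ZeroCycle
import Mathlib.Analysis.SpecialFunctions.Complex.LogBounds
import Mathlib.Analysis.Normed.Group.Tannery
import Mathlib.Algebra.BigOperators.Finsupp.Basic

/-!
# The logarithm of a cycle series
-/

set_option autoImplicit false

universe u v

namespace Groth.Agent.DedekindCont25

open Complex Filter Topology Groth.Agent.Zeta25

variable {P : Type u} (N : P → ℕ)

/-- The coefficients of the logarithm of the cycle series. -/
noncomputable def logCoeff (n : ℕ) : ℝ :=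
  ∑' z : {z : P × ℕ // N z.1 ^ (z.2 + 1) = n}, ((z.1.2 + 1 : ℕ) : ℝ)⁻¹

theorem logCoeff_nonneg (n : ℕ) : 0 ≤ logCoeff N n := tsum_nonneg fun _ => by positivity

variable {N}

theorem logCoeff_eq_zero (n : ℕ) (h : ∀ (x : P) (j : ℕ), N x ^ (j + 1) ≠ n) : logCoeff N n = 0 := by
  haveI : IsEmpty {z : P × ℕ // N z.1 ^ (z.2 + 1) = n} := ⟨fun z => h _ _ z.2⟩
  exact tsum_empty

theorem finite_logFiber (h2 : ∀ x, 2 ≤ N x) (hfin : ∀ n, Finite {x : P // N x = n}) (n : ℕ) :
    Finite {z : P × ℕ // N z.1 ^ (z.2 + 1) = n} := by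
  haveI : ∀ d : Fin (n + 1), Finite {x : P // N x = (d : ℕ)} := fun d => hfin d
  refine Finite.of_injective (β := (Σ d : Fin (n + 1), {x : P // N x = (d : ℕ)}) × Fin (n + 1))
    (fun z => (⟨⟨N z.1.1, Nat.lt_succ_of_le ((Nat.le_self_pow (Nat.succ_ne_zero _) _).trans z.2.le)⟩, z.1.1, rfl⟩,
      ⟨z.1.2, Nat.lt_succ_of_le ((Nat.le_succ _).trans ((Nat.lt_pow_self (h2 z.1.1)).le.trans z.2.le))⟩))
    fun a b h => ?_
  refine Subtype.ext (Prod.ext ?_ (congrArg (fun p => (p.2 : ℕ)) h))
  exact congrArg (fun p => (p.1.2 : P)) h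

variable (h2 : ∀ x, 2 ≤ N x) {σ : ℝ} (hσ : 0 < σ) (hsum : Summable fun x => (N x : ℝ) ^ (-σ))
variable {s : ℂ} (hs : σ ≤ s.re)
include h2 hσ hsum hs

omit hsum in
theorem norm_cpow_le (x : P) : ‖(N x : ℂ) ^ (-s)‖ ≤ (N x : ℝ) ^ (-σ) ∧ (N x : ℝ) ^ (-σ) ≤ (2 : ℝ) ^ (-σ) := by
  refine ⟨?_, Real.rpow_le_rpow_of_nonpos two_pos (by exact_mod_cast h2 x) (neg_nonpos.mpr hσ.le)⟩
  rw [norm_natCast_cpow_of_pos (lt_of_lt_of_le two_pos (h2 x)), neg_re]
  exact Real.rpow_le_rpow_of_exponent_le (by exact_mod_cast le_trans one_le_two (h2 x)) (neg_le_neg hs)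

omit hsum in
theorem norm_cpow_lt_one (x : P) : ‖(N x : ℂ) ^ (-s)‖ < 1 :=
  lt_of_le_of_lt ((norm_cpow_le h2 hσ hs x).1.trans (norm_cpow_le h2 hσ hs x).2)
    (Real.rpow_lt_one_of_one_lt_of_neg one_lt_two (neg_neg_of_pos hσ))

theorem summable_logTerm : Summable fun z : P × ℕ => ‖((N z.1 : ℂ) ^ (-s)) ^ (z.2 + 1) / (z.2 + 1 : ℕ)‖ := by
  set a := (2 : ℝ) ^ (-σ)
  have ha : a < 1 := Real.rpow_lt_one_of_one_lt_of_neg one_lt_two (neg_neg_of_pos hσ)
  have ha0 : 0 ≤ a := Real.rpow_nonneg zero_le_two _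
  refine Summable.of_nonneg_of_le (fun _ => norm_nonneg _) (fun z => ?_)
    (hsum.mul_of_nonneg (summable_geometric_of_lt_one ha0 ha) (fun x => Real.rpow_nonneg (Nat.cast_nonneg _) _)
      fun j => pow_nonneg ha0 j)
  obtain ⟨h1, h3⟩ := norm_cpow_le h2 hσ hs z.1
  rw [norm_div, norm_pow, Complex.norm_natCast, pow_succ']
  refine le_trans (div_le_self (by positivity) (by exact_mod_cast Nat.le_add_left 1 z.2)) ?_
  exact mul_le_mul h1 (pow_le_pow_left₀ (norm_nonneg _) (h1.trans h3) _) (by positivity)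
    (Real.rpow_nonneg (Nat.cast_nonneg _) _)

/-- **The cycle series is the exponential of its logarithm.** -/
theorem lSeries_cycleCoeff_eq_exp : LSeries (cycleCoeff N) s =
    cexp (∑' z : P × ℕ, ((N z.1 : ℂ) ^ (-s)) ^ (z.2 + 1) / (z.2 + 1 : ℕ)) := by
  classical
  rw [LSeries, (hasSum_term h2 hσ hsum hs).tsum_eq]
  set v : P → ℂ := fun x => (N x : ℂ) ^ (-s) with hv
  set F : (P →₀ ℕ) → ℂ := fun α => (nm N α : ℂ) ^ (-s) with hF
  have hFsum : Summable fun α => ‖F α‖ := summable_norm_cpow h2 hσ hsum hs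
  have hFadd : ∀ α β, F (α + β) = F α * F β := fun α β => by
    simp only [hF, nm_add]; push_cast; rw [natCast_mul_natCast_cpow]
  have hFs : ∀ x j, F (Finsupp.single x j) = v x ^ j := fun x j => by
    simp only [hF, nm, hv]
    rw [Finsupp.prod_single_index (by simp)]
    push_cast
    rw [← natCast_cpow_natCast_mul, mul_comm, cpow_mul_nat]
  have hlog : ∀ x, HasSum (fun j : ℕ => v x ^ (j + 1) / (j + 1 : ℕ)) (-Complex.log (1 - v x)) := fun x => by
    simpa using hasSum_taylorSeries_neg_log' (norm_cpow_lt_one h2 hσ hs x)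
  -- finite products
  have hfinite : ∀ S : Finset P, HasSum (fun α => if α.support ⊆ S then F α else 0)
      (cexp (∑ x ∈ S, -Complex.log (1 - v x))) := by
    intro S
    induction S using Finset.induction_on with
    | empty =>
      simp only [Finset.sum_empty, Complex.exp_zero, Finset.subset_empty, Finsupp.support_eq_empty]
      refine (hasSum_ite_eq (0 : P →₀ ℕ) (1 : ℂ)).congr_fun fun α => ?_
      split_ifs with h
      · subst h; simp [hF, nm_zero]
      · rfl
    | insert x S hx ih =>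
      rw [Finset.sum_insert hx, Complex.exp_add]
      have hgeo : HasSum (fun j : ℕ => v x ^ j) (cexp (-Complex.log (1 - v x))) := by
        have hne : (1 : ℂ) - v x ≠ 0 := fun h => by
          have := norm_cpow_lt_one h2 hσ hs x
          rw [show (N x : ℂ) ^ (-s) = 1 from (sub_eq_zero.1 h).symm, norm_one] at this
          exact lt_irrefl _ this
        rw [Complex.exp_neg, Complex.exp_log hne]
        exact hasSum_geometric_of_norm_lt_one (norm_cpow_lt_one h2 hσ hs x)
      have hgeo' : Summable fun j : ℕ => ‖v x ^ j‖ := by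
        simp only [norm_pow]; exact summable_geometric_of_lt_one (norm_nonneg _) (norm_cpow_lt_one h2 hσ hs x)
      have hih' : Summable fun α => ‖if α.support ⊆ S then F α else 0‖ :=
        hFsum.of_nonneg_of_le (fun _ => norm_nonneg _) fun α => by split_ifs <;> simp
      have hprod := (summable_mul_of_summable_norm hgeo' hih').hasSum
      rw [← tsum_mul_tsum_of_summable_norm hgeo' hih', hgeo.tsum_eq, ih.tsum_eq] at hprod
      let g : ℕ × {β : P →₀ ℕ // β.support ⊆ S} → (P →₀ ℕ) := fun z => Finsupp.single x z.1 + z.2.1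
      have h0 : ∀ β : {β : P →₀ ℕ // β.support ⊆ S}, β.1 x = 0 := fun β =>
        Finsupp.notMem_support_iff.1 fun h => hx (β.2 h)
      have hg : Function.Injective g := fun a b h => by
        have e := DFunLike.congr_fun h x
        simp only [g, Finsupp.add_apply, Finsupp.single_eq_same, h0, add_zero] at e
        refine Prod.ext e (Subtype.ext ?_)
        simp only [g, e] at h
        exact add_left_cancel h
      refine (hg.hasSum_iff fun α hα => if_neg fun h => hα ?_).1 ?_
      · refine ⟨(α x, ⟨α.erase x, ?_⟩), Finsupp.single_add_erase x α⟩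
        rw [Finsupp.support_erase]
        intro y hy
        obtain ⟨hy1, hy2⟩ := Finset.mem_erase.1 hy
        exact (Finset.mem_insert.1 (h hy2)).resolve_left hy1
      · let e : ℕ × {β : P →₀ ℕ // β.support ⊆ S} → ℕ × (P →₀ ℕ) := fun z => (z.1, z.2.1)
        have he : Function.Injective e := fun a b h =>
          Prod.ext (congrArg (fun z => z.1) h) (Subtype.ext (congrArg (fun z => z.2) h))
        refine ((he.hasSum_iff fun z hz => ?_).2 hprod).congr_fun fun z => ?_
        · rw [if_neg fun h => hz ⟨(z.1, ⟨z.2, h⟩), rfl⟩, mul_zero]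
        · simp only [Function.comp_apply, g, e]
          rw [if_pos z.2.2, if_pos, hFadd, hFs]
          refine Finsupp.support_add.trans (Finset.union_subset ?_ (z.2.2.trans (Finset.subset_insert _ _)))
          exact Finsupp.support_single_subset.trans (by simp)
  -- the limit
  have hlim : Tendsto (fun S : Finset P => cexp (∑ x ∈ S, -Complex.log (1 - v x))) atTop (𝓝 (∑' α, F α)) := by
    refine (tendsto_tsum_of_dominated_convergence (f := fun (S : Finset P) α => if α.support ⊆ S then F α else 0)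
      hFsum (fun α => ?_) (Eventually.of_forall fun S α => by split_ifs <;> simp)).congr
      fun S => (hfinite S).tsum_eq
    exact tendsto_const_nhds.congr' (by
      filter_upwards [eventually_ge_atTop α.support] with S hS
      exact (if_pos hS).symm)
  refine tendsto_nhds_unique hlim ((Complex.continuous_exp.tendsto _).comp ?_)
  exact ((summable_logTerm h2 hσ hsum hs).of_norm.hasSum.prod_fiberwise hlog)

/-- The logarithm as a Dirichlet series. -/
theorem hasSum_logCoeff : HasSum (LSeries.term (fun n => (logCoeff N n : ℂ)) s)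
    (∑' z : P × ℕ, ((N z.1 : ℂ) ^ (-s)) ^ (z.2 + 1) / (z.2 + 1 : ℕ)) := by
  classical
  refine ((Equiv.sigmaFiberEquiv fun z : P × ℕ => N z.1 ^ (z.2 + 1)).hasSum_iff.2
    (summable_logTerm h2 hσ hsum hs).of_norm.hasSum).sigma fun n => ?_
  have hfin : ∀ n, Finite {x : P // N x = n} := fun n => by
    haveI := finite_fiber h2 hσ hsum n
    refine Finite.of_injective (fun x => (⟨Finsupp.single x.1 1, by simp [nm, x.2]⟩ : {α : P →₀ ℕ // nm N α = n}))
      fun a b h => Subtype.ext (Finsupp.single_left_injective one_ne_zero (congrArg Subtype.val h))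
  haveI := finite_logFiber h2 hfin n
  letI := Fintype.ofFinite {z : P × ℕ // N z.1 ^ (z.2 + 1) = n}
  convert hasSum_fintype _ using 1
  rw [LSeries.term]
  rcases eq_or_ne n 0 with rfl | hn
  · rw [if_pos rfl]
    haveI : IsEmpty {z : P × ℕ // N z.1 ^ (z.2 + 1) = 0} :=
      ⟨fun z => pow_ne_zero _ (lt_of_lt_of_le two_pos (h2 z.1.1)).ne' z.2⟩
    simp
  rw [if_neg hn, logCoeff, tsum_fintype, ofReal_sum, Finset.sum_div]
  refine Finset.sum_congr rfl fun z _ => ?_
  simp only [Function.comp_apply, Equiv.sigmaFiberEquiv_apply]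
  have e : ((N z.1.1 : ℂ) ^ (-s)) ^ (z.1.2 + 1) = (n : ℂ) ^ (-s) := by
    conv_rhs => rw [← z.2]
    push_cast
    rw [← natCast_cpow_natCast_mul, mul_comm, cpow_mul_nat]
  rw [e, cpow_neg, ofReal_inv, ofReal_natCast]
  field_simp

theorem lSeriesSummable_logCoeff : LSeriesSummable (fun n => (logCoeff N n : ℂ)) s :=
  (hasSum_logCoeff h2 hσ hsum hs).summable

/-- The cycle series is the exponential of the logarithmic series. -/
theorem lSeries_eq_exp_logCoeff :
    LSeries (cycleCoeff N) s = cexp (LSeries (fun n => (logCoeff N n : ℂ)) s) := by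
  rw [lSeries_cycleCoeff_eq_exp h2 hσ hsum hs]
  congr 1
  exact (hasSum_logCoeff h2 hσ hsum hs).tsum_eq.symm

omit hσ hsum hs in
/-- The logarithmic coefficient counts homomorphisms to the field with `q` elements. -/
theorem card_eq_logCoeff (hfin : ∀ n, Finite {x : P // N x = n}) {q e : ℕ} (H : P → Type v)
    (hH : ∀ (x : P) (j : ℕ), N x ^ (j + 1) = q → Finite (H x) ∧ Nat.card (H x) * (j + 1) = e)
    (hH' : ∀ x : P, Nonempty (H x) → ∃ j : ℕ, N x ^ (j + 1) = q) :
    ((Nat.card (Σ x, H x) : ℕ) : ℝ) = e * logCoeff N q := by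
  classical
  haveI := finite_logFiber h2 hfin q
  letI := Fintype.ofFinite {z : P × ℕ // N z.1 ^ (z.2 + 1) = q}
  haveI : ∀ z : {z : P × ℕ // N z.1 ^ (z.2 + 1) = q}, Finite (H z.1.1) := fun z => (hH _ _ z.2).1
  let E : (Σ z : {z : P × ℕ // N z.1 ^ (z.2 + 1) = q}, H z.1.1) → Σ x, H x := fun y => ⟨y.1.1.1, y.2⟩
  have hE : Function.Bijective E := by
    constructor
    · rintro ⟨⟨⟨x, j⟩, h⟩, y⟩ ⟨⟨⟨x', j'⟩, h'⟩, y'⟩ he
      obtain ⟨rfl, hy⟩ := Sigma.mk.inj_iff.1 he
      obtain rfl : j = j' := Nat.succ_injective (Nat.pow_right_injective (h2 x) (h.trans h'.symm))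
      obtain rfl := eq_of_heq hy
      rfl
    · rintro ⟨x, y⟩
      obtain ⟨j, hj⟩ := hH' x ⟨y⟩
      exact ⟨⟨⟨(x, j), hj⟩, y⟩, rfl⟩
  rw [← Nat.card_eq_of_bijective E hE, Nat.card_sigma, logCoeff, tsum_fintype, Finset.mul_sum, Nat.cast_sum]
  refine Finset.sum_congr rfl fun z _ => ?_
  have h : ((Nat.card (H z.1.1) : ℕ) : ℝ) * (z.1.2 + 1 : ℕ) = e := by exact_mod_cast (hH _ _ z.2).2
  rw [← h]
  field_simp

end Groth.Agent.DedekindCont25
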