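import Mathlib.Algebra.Module.ZLattice.Summable
import Mathlib.Algebra.Module.ZLattice.Basic
import Mathlib.Analysis.SpecialFunctions.JapaneseBracket
import Mathlib.Analysis.Complex.LocallyUniformLimit
import Mathlib.Analysis.Calculus.ParametricIntegral
import Mathlib.Analysis.Calculus.DSlope
import Mathlib.MeasureTheory.Measure.Haar.NormedSpace
import Mathlib.MeasureTheory.Group.FundamentalDomain
import Mathlib.Analysis.Complex.CauchyIntegral

/-!
# Continuation of homogeneous lattice sums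

For a weight `w` of degree `0` and a logarithm `l` of a form of degree `d = dim E`, both Lipschitz away from the
origin in the scale invariant sense, the sum `∑ w x · exp (-s l x)` over a lattice continues to `re s > 1 - 1/d`
with at most a simple pole at `1`: compare the sum with the integral.
-/

set_option autoImplicit false

namespace Groth.Agent.DedekindCont25

open MeasureTheory Complex Module Filter Topology
open scoped Pointwise

theorem differentiable_integral_exp {α : Type*} [MeasurableSpace α] (ν : Measure α) [IsFiniteMeasure ν]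
    (W l : α → ℝ) (hW : Measurable W) (hl : Measurable l) (h1 : ∀ x, |W x| ≤ 1) {B : ℝ}
    (hB : ∀ᵐ x ∂ν, W x ≠ 0 → |l x| ≤ B) :
    Differentiable ℂ fun s : ℂ => ∫ x, (W x : ℂ) * cexp (-s * (l x : ℂ)) ∂ν := by
  have hbd : ∀ s : ℂ, ∀ᵐ x ∂ν, ‖(W x : ℂ) * cexp (-s * (l x : ℂ))‖ ≤ Real.exp (‖s‖ * |B|) := fun s => by
    filter_upwards [hB] with x hx
    rw [norm_mul, norm_real, Real.norm_eq_abs]
    rcases eq_or_ne (W x) 0 with h | h
    · rw [h, abs_zero, zero_mul]; positivity
    refine (mul_le_of_le_one_left (norm_nonneg _) (h1 x)).trans ((norm_exp_le_exp_norm _).trans ?_)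
    rw [norm_mul, norm_neg, norm_real, Real.norm_eq_abs]
    exact Real.exp_le_exp.2 (mul_le_mul_of_nonneg_left ((hx h).trans (le_abs_self B)) (norm_nonneg _))
  have hm : ∀ s : ℂ, Measurable fun x => (W x : ℂ) * cexp (-s * (l x : ℂ)) := fun s => by fun_prop
  intro s₀
  refine (hasDerivAt_integral_of_dominated_loc_of_deriv_le (μ := ν) (x₀ := s₀)
    (F := fun s x => (W x : ℂ) * cexp (-s * (l x : ℂ)))
    (F' := fun s x => (W x : ℂ) * (cexp (-s * (l x : ℂ)) * (-(l x : ℂ))))
    (bound := fun _ => Real.exp ((‖s₀‖ + 1) * |B|) * |B|) (Metric.ball_mem_nhds s₀ one_pos)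
    (Eventually.of_forall fun s => (hm s).aestronglyMeasurable) ?_ ?_ ?_ (integrable_const _) ?_).2.differentiableAt
  · exact Integrable.mono' (integrable_const _) (hm s₀).aestronglyMeasurable (hbd s₀)
  · exact (by fun_prop : Measurable fun x => (W x : ℂ) * (cexp (-s₀ * (l x : ℂ)) * (-(l x : ℂ)))).aestronglyMeasurable
  · filter_upwards [hB] with x hx s hs
    have hs' : ‖s‖ ≤ ‖s₀‖ + 1 := by
      have := norm_le_norm_add_norm_sub' s s₀
      rw [Metric.mem_ball, dist_eq_norm] at hs
      linarith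
    rw [norm_mul, norm_mul, norm_neg, norm_real, norm_real, Real.norm_eq_abs, Real.norm_eq_abs]
    rcases eq_or_ne (W x) 0 with h | h
    · rw [h, abs_zero, zero_mul]; positivity
    refine (mul_le_of_le_one_left (by positivity) (h1 x)).trans ?_
    refine mul_le_mul ((norm_exp_le_exp_norm _).trans ?_) ((hx h).trans (le_abs_self B)) (abs_nonneg _) (Real.exp_nonneg _)
    rw [norm_mul, norm_neg, norm_real, Real.norm_eq_abs]
    exact Real.exp_le_exp.2 (mul_le_mul hs' ((hx h).trans (le_abs_self B)) (abs_nonneg _) (by positivity))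
  · refine ae_of_all _ fun x s _ => ?_
    have h := (((hasDerivAt_id s).neg.mul_const (l x : ℂ)).cexp).const_mul (W x : ℂ)
    simpa [neg_mul, mul_comm] using h

variable (E : Type*) [NormedAddCommGroup E] [NormedSpace ℝ E] [FiniteDimensional ℝ E] [MeasurableSpace E]

/-- A weight of degree `0` together with the logarithm of a form of degree `dim E`. -/
structure ConeWeight where
  w : E → ℝ
  l : E → ℝ
  w_meas : Measurable w
  l_meas : Measurable l
  w_le : ∀ x, |w x| ≤ 1
  w_zero : w 0 = 0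
  w_smul : ∀ c : ℝ, 0 < c → ∀ x, w (c • x) = w x
  l_smul : ∀ c : ℝ, 0 < c → ∀ x, w x ≠ 0 → l (c • x) = finrank ℝ E * Real.log c + l x
  l_bound : ∃ A : ℝ, 0 ≤ A ∧ ∀ x, w x ≠ 0 → |l x - finrank ℝ E * Real.log ‖x‖| ≤ A
  lip : ∀ R : ℝ, ∃ L R₀ : ℝ, 0 ≤ L ∧ ∀ x y : E, R₀ ≤ ‖x‖ → w x ≠ 0 → ‖x - y‖ ≤ R →
    |w x - w y| ≤ L / ‖x‖ ∧ |l x - l y| ≤ L / ‖x‖

variable {E} (W : ConeWeight E)

/-- The summand. -/
noncomputable def ConeWeight.F (s : ℂ) (x : E) : ℂ := (W.w x : ℂ) * cexp (-s * (W.l x : ℂ))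

theorem ConeWeight.F_zero (s : ℂ) : W.F s 0 = 0 := by simp [ConeWeight.F, W.w_zero]

theorem ConeWeight.measurable_F (s : ℂ) : Measurable (W.F s) := by
  have := W.w_meas; have := W.l_meas
  unfold ConeWeight.F; fun_prop

theorem ConeWeight.ne_zero {x : E} (h : W.w x ≠ 0) : x ≠ 0 := fun e => h (e ▸ W.w_zero)

theorem ConeWeight.norm_F_le {A : ℝ} (hA : ∀ x, W.w x ≠ 0 → |W.l x - finrank ℝ E * Real.log ‖x‖| ≤ A)
    (s : ℂ) (x : E) : ‖W.F s x‖ ≤ Real.exp (|s.re| * A) * ‖x‖ ^ (-(finrank ℝ E * s.re)) := by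
  rcases eq_or_ne (W.w x) 0 with h | h
  · simp only [ConeWeight.F, h, ofReal_zero, zero_mul, norm_zero]; positivity
  have hx : 0 < ‖x‖ := norm_pos_iff.2 (W.ne_zero h)
  rw [ConeWeight.F, norm_mul, norm_real, Real.norm_eq_abs, Real.rpow_def_of_pos hx, ← Real.exp_add]
  refine (mul_le_of_le_one_left (norm_nonneg _) (W.w_le x)).trans ?_
  rw [Complex.norm_exp]
  refine Real.exp_le_exp.2 ?_
  have h1 : -(s.re * (W.l x - finrank ℝ E * Real.log ‖x‖)) ≤ |s.re| * A :=
    (neg_le_abs _).trans (by rw [abs_mul]; exact mul_le_mul_of_nonneg_left (hA x h) (abs_nonneg _))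
  simp only [mul_re, neg_re, ofReal_re, neg_im, ofReal_im, mul_zero, sub_zero]
  linarith

/-- The variation of the summand on sets of bounded diameter. -/
theorem ConeWeight.exists_sub_le (R σ₀ S : ℝ) : ∃ K R₁ : ℝ, ∀ s : ℂ, σ₀ ≤ s.re → ‖s‖ ≤ S →
    ∀ x y : E, R₁ ≤ ‖x‖ → ‖x - y‖ ≤ R → ‖W.F s x - W.F s y‖ ≤ K * ‖x‖ ^ (-(finrank ℝ E * σ₀ + 1)) := by
  obtain ⟨L, R₀, hL, hlip⟩ := W.lip R
  obtain ⟨A, hA0, hA⟩ := W.l_bound
  set d : ℝ := ((finrank ℝ E : ℕ) : ℝ) with hd
  set T := Real.exp (S * A) * L * (1 + S * Real.exp (S * L)) with hT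
  refine ⟨T * (1 + 2 ^ |d * σ₀ + 1|), max 2 (max (2 * R₀) (2 * R)), fun s hs hS x y hx hxy => ?_⟩
  simp only [max_le_iff] at hx
  obtain ⟨hx2, hxR0, hxR⟩ := hx
  have hS0 : 0 ≤ S := (norm_nonneg s).trans hS
  have hT0 : 0 ≤ T := by positivity
  have main : ∀ u v : E, R₀ ≤ ‖u‖ → 1 ≤ ‖u‖ → W.w u ≠ 0 → ‖u - v‖ ≤ R →
      ‖W.F s u - W.F s v‖ ≤ T * ‖u‖ ^ (-(d * σ₀ + 1)) := by
    intro u v hu hu1 hwu huv
    obtain ⟨hw, hl⟩ := hlip u v hu hwu huv
    have hu0 : 0 < ‖u‖ := by linarith
    set Δ : ℂ := -s * ((W.l v : ℂ) - (W.l u : ℂ)) with hΔ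
    have e : W.F s u - W.F s v = cexp (-s * (W.l u : ℂ)) *
        (((W.w u : ℂ) - (W.w v : ℂ)) - (W.w v : ℂ) * (cexp Δ - 1)) := by
      have : cexp (-s * (W.l v : ℂ)) = cexp (-s * (W.l u : ℂ)) * cexp Δ := by
        rw [← Complex.exp_add]; congr 1; rw [hΔ]; ring
      simp only [ConeWeight.F, this]; ring
    have hΔn : ‖Δ‖ ≤ S * (L / ‖u‖) := by
      rw [hΔ, norm_mul, norm_neg, ← ofReal_sub, norm_real, Real.norm_eq_abs, abs_sub_comm]
      exact mul_le_mul hS hl (abs_nonneg _) hS0
    have hLu : L / ‖u‖ ≤ L := div_le_self hL hu1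
    have h1 : ‖cexp Δ - 1‖ ≤ S * (L / ‖u‖) * Real.exp (S * L) := by
      have := norm_exp_sub_sum_le_norm_mul_exp Δ 1
      simp only [Finset.sum_range_one, pow_zero, Nat.factorial_zero, Nat.cast_one, div_one, pow_one] at this
      exact this.trans (mul_le_mul hΔn (Real.exp_le_exp.2 (hΔn.trans (mul_le_mul_of_nonneg_left hLu hS0)))
        (Real.exp_nonneg _) (by positivity))
    have h2 : ‖cexp (-s * (W.l u : ℂ))‖ ≤ Real.exp (S * A) * ‖u‖ ^ (-(d * σ₀)) := by
      rw [Complex.norm_exp, Real.rpow_def_of_pos hu0, ← Real.exp_add]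
      refine Real.exp_le_exp.2 ?_
      have h3 : -(s.re * (W.l u - d * Real.log ‖u‖)) ≤ S * A :=
        (neg_le_abs _).trans (by
          rw [abs_mul]; exact mul_le_mul ((abs_re_le_norm s).trans hS) (hA u hwu) (abs_nonneg _) hS0)
      have h4 : 0 ≤ (s.re - σ₀) * (d * Real.log ‖u‖) :=
        mul_nonneg (by linarith) (mul_nonneg (Nat.cast_nonneg _) (Real.log_nonneg hu1))
      simp only [mul_re, neg_re, ofReal_re, neg_im, ofReal_im, mul_zero, sub_zero]
      linarith
    rw [e, norm_mul]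
    refine (mul_le_mul h2 ((norm_sub_le _ _).trans (add_le_add (le_of_eq (by
      rw [← ofReal_sub, norm_real, Real.norm_eq_abs])) (le_of_eq (norm_mul _ _)))) (norm_nonneg _) (by positivity)).trans ?_
    have h5 : |W.w u - W.w v| + ‖(W.w v : ℂ)‖ * ‖cexp Δ - 1‖ ≤
        L * (1 + S * Real.exp (S * L)) / ‖u‖ := by
      rw [norm_real, Real.norm_eq_abs]
      refine (add_le_add hw ((mul_le_of_le_one_left (norm_nonneg _) (W.w_le v)).trans h1)).trans (le_of_eq ?_)
      ring
    refine (mul_le_mul_of_nonneg_left h5 (by positivity)).trans (le_of_eq ?_)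
    rw [neg_add, Real.rpow_add hu0, Real.rpow_neg_one, hT]
    ring
  have hx0 : 0 < ‖x‖ := by linarith
  have hpow : (0 : ℝ) ≤ ‖x‖ ^ (-(d * σ₀ + 1)) := by positivity
  by_cases hwx : W.w x = 0
  · by_cases hwy : W.w y = 0
    · simp only [ConeWeight.F, hwx, hwy, ofReal_zero, zero_mul, sub_self, norm_zero]
      positivity
    have hy : ‖x‖ / 2 ≤ ‖y‖ ∧ ‖y‖ ≤ 2 * ‖x‖ := by
      have h1 := norm_sub_norm_le x y
      have h2 := norm_sub_norm_le y x
      rw [norm_sub_rev y x] at h2
      constructor <;> linarith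
    rw [norm_sub_rev]
    refine (main y x (by linarith) (by linarith) hwy (by rwa [norm_sub_rev])).trans ?_
    rw [mul_assoc T]
    refine mul_le_mul_of_nonneg_left ?_ hT0
    rw [add_mul, one_mul]
    refine le_add_of_nonneg_of_le hpow ?_
    have hy0 : 0 < ‖y‖ := by linarith
    rw [Real.rpow_def_of_pos hy0, Real.rpow_def_of_pos hx0, Real.rpow_def_of_pos two_pos, ← Real.exp_add]
    refine Real.exp_le_exp.2 ?_
    have hlog : |Real.log ‖x‖ - Real.log ‖y‖| ≤ Real.log 2 := by
      rw [abs_le, ← Real.log_div hx0.ne' hy0.ne', ← Real.log_inv]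
      refine ⟨Real.log_le_log (by norm_num) ?_, Real.log_le_log (by positivity) ?_⟩
      · rw [le_div_iff₀ hy0]; linarith
      · rw [div_le_iff₀ hy0]; linarith
    have h6 : (Real.log ‖x‖ - Real.log ‖y‖) * (d * σ₀ + 1) ≤ Real.log 2 * |d * σ₀ + 1| :=
      (le_abs_self _).trans (by rw [abs_mul]; exact mul_le_mul_of_nonneg_right hlog (abs_nonneg _))
    linarith
  · refine (main x y (by linarith) (by linarith) hwx hxy).trans ?_
    rw [mul_assoc T]
    refine mul_le_mul_of_nonneg_left ?_ hT0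
    exact le_mul_of_one_le_left hpow (le_add_of_nonneg_right (by positivity))

variable [BorelSpace E] {ι : Type*} [Fintype ι] (b : Basis ι ℝ E)

/-- `(1 - exp (-a (s - 1))) / (s - 1)`. -/
noncomputable def phi (a : ℝ) : ℂ → ℂ := dslope (fun s => 1 - cexp (-(a : ℂ) * (s - 1))) 1

theorem differentiable_phi (a : ℝ) : Differentiable ℂ (phi a) := by
  rw [← differentiableOn_univ, phi, differentiableOn_dslope Filter.univ_mem, differentiableOn_univ]
  fun_prop

theorem sub_one_mul_phi (a : ℝ) (s : ℂ) : (s - 1) * phi a s = 1 - cexp (-(a : ℂ) * (s - 1)) := by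
  have h := sub_smul_dslope (fun s : ℂ => 1 - cexp (-(a : ℂ) * (s - 1))) 1 s
  simpa [phi] using h

theorem phi_one (a : ℝ) : phi a 1 = a := by
  rw [phi, dslope_same]
  have h := (((hasDerivAt_id (1 : ℂ)).sub_const 1).const_mul (-(a : ℂ))).cexp.const_sub 1
  simpa using h.deriv

theorem phi_ne_zero_or {d : ℕ} (hd : 0 < d) (s : ℂ) :
    phi (d * Real.log 2) s ≠ 0 ∨ phi (d * Real.log 3) s ≠ 0 := by
  by_contra h
  push Not at h
  obtain ⟨h2, h3⟩ := h
  have hd' : (d : ℝ) ≠ 0 := by positivity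
  have hs : s ≠ 1 := by
    rintro rfl
    rw [phi_one, ofReal_eq_zero] at h2
    exact mul_ne_zero hd' (Real.log_pos one_lt_two).ne' h2
  have key : ∀ c : ℝ, phi (d * Real.log c) s = 0 → ∃ n : ℤ,
      -((d * Real.log c : ℝ) : ℂ) * (s - 1) = n * (2 * Real.pi * I) := fun c hc => by
    have h := sub_one_mul_phi (d * Real.log c) s
    rw [hc, mul_zero, eq_comm, sub_eq_zero, eq_comm, Complex.exp_eq_one_iff] at h
    exact h
  obtain ⟨n, hn⟩ := key 2 h2
  obtain ⟨m, hm⟩ := key 3 h3
  have him2 := congrArg Complex.im hn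
  have him3 := congrArg Complex.im hm
  simp only [neg_mul, neg_im, mul_im, ofReal_re, ofReal_im, zero_mul, add_zero, sub_im, one_im, sub_zero,
    intCast_re, intCast_im, mul_re, re_ofNat, im_ofNat, I_re, I_im, mul_zero, mul_one, zero_add] at him2 him3
  have hre2 := congrArg Complex.re hn
  simp only [neg_mul, neg_re, mul_re, ofReal_re, ofReal_im, zero_mul, sub_zero, sub_re, one_re,
    intCast_re, intCast_im, re_ofNat, im_ofNat, I_re, I_im, mul_zero, mul_im, add_zero] at hre2
  have hre : s.re = 1 := by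
    have : (d * Real.log 2) * (s.re - 1) = 0 := by linarith
    have := (mul_eq_zero.1 this).resolve_left (mul_ne_zero hd' (Real.log_pos one_lt_two).ne')
    linarith
  have him : s.im ≠ 0 := fun h => hs (Complex.ext (by simp [hre]) (by simp [h]))
  have hpi : (2 * Real.pi) ≠ 0 := by positivity
  have hnm : (n : ℝ) * Real.log 3 = m * Real.log 2 := by
    have e : ((n : ℝ) * Real.log 3 - m * Real.log 2) * (2 * Real.pi) = 0 := by linear_combination -Real.log 3 * him2 + Real.log 2 * him3
    have := (mul_eq_zero.1 e).resolve_right hpi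
    linarith
  have hn0 : n ≠ 0 := by
    rintro rfl
    simp only [Int.cast_zero, zero_mul, neg_eq_zero, mul_eq_zero] at him2
    exact him (him2.resolve_left (not_or.2 ⟨Nat.cast_ne_zero.2 hd.ne', (Real.log_pos one_lt_two).ne'⟩))
  have habs : (n.natAbs : ℝ) * Real.log 3 = m.natAbs * Real.log 2 := by
    have := congrArg abs hnm
    rwa [abs_mul, abs_mul, abs_of_pos (Real.log_pos (by norm_num : (1:ℝ) < 3)),
      abs_of_pos (Real.log_pos one_lt_two), ← Int.cast_abs, ← Int.cast_abs, ← Int.natCast_natAbs,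
      ← Int.natCast_natAbs, Int.cast_natCast, Int.cast_natCast] at this
  rw [← Real.log_pow, ← Real.log_pow] at habs
  have h32 : (3 : ℕ) ^ n.natAbs = 2 ^ m.natAbs := by
    exact_mod_cast Real.log_injOn_pos (Set.mem_Ioi.2 (by positivity)) (Set.mem_Ioi.2 (by positivity)) habs
  have hodd : Odd ((3 : ℕ) ^ n.natAbs) := (by decide : Odd 3).pow
  rcases Nat.eq_zero_or_pos m.natAbs with h0 | h0
  · rw [h0, pow_zero] at h32
    exact absurd h32 (Nat.one_lt_pow (Int.natAbs_ne_zero.2 hn0) (by norm_num)).ne'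
  · rw [h32] at hodd
    exact Nat.not_even_iff_odd.2 hodd (Nat.even_pow.2 ⟨even_two, h0.ne'⟩)

/-- **Continuation of a homogeneous lattice sum.** -/
theorem ConeWeight.continuation (hdim : 0 < finrank ℝ E) :
    (∀ s : ℂ, 1 < s.re → Summable fun v : Submodule.span ℤ (Set.range b) => ‖W.F s v‖) ∧
    ∃ G : ℂ → ℂ, DifferentiableOn ℂ G {s | 1 - 1 / (finrank ℝ E : ℝ) < s.re} ∧
      ∀ s : ℂ, 1 < s.re → G s = (s - 1) * ∑' v : Submodule.span ℤ (Set.range b), W.F s v := by
  classical
  set Λ := Submodule.span ℤ (Set.range b) with hΛ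
  set d := finrank ℝ E with hd
  have hd' : (0 : ℝ) < d := Nat.cast_pos.2 hdim
  obtain ⟨A, hA0, hA⟩ := W.l_bound
  have hrank : finrank ℤ Λ = d := ZLattice.rank ℝ Λ
  have hsum : ∀ r : ℝ, (d : ℝ) < r → Summable fun v : Λ => ‖(v : E)‖ ^ (-r) := fun r hr => by
    have := ZLattice.summable_norm_rpow Λ (-r) (by rw [hrank]; linarith)
    simpa using this
  have hnorm : ∀ s : ℂ, 1 < s.re → Summable fun v : Λ => ‖W.F s v‖ := fun s hs =>
    Summable.of_nonneg_of_le (fun _ => norm_nonneg _) (fun v => W.norm_F_le hA s v)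
      ((hsum (d * s.re) (lt_mul_of_one_lt_right hd' hs)).mul_left _)
  refine ⟨hnorm, ?_⟩
  obtain ⟨μ, _⟩ : ∃ μ : Measure E, μ.IsAddHaarMeasure := ⟨Measure.addHaar, inferInstance⟩
  haveI : VAddInvariantMeasure Λ E μ := inferInstanceAs <| VAddInvariantMeasure Λ.toAddSubgroup E μ
  set P := ZSpan.fundamentalDomain b with hP
  have hPm : MeasurableSet P := ZSpan.fundamentalDomain_measurableSet b
  obtain ⟨R, hR⟩ := (ZSpan.fundamentalDomain_isBounded b).subset_closedBall 0
  have hPR : ∀ x ∈ P, ‖x‖ ≤ R := fun x hx => mem_closedBall_zero_iff.1 (hR hx)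
  have hPfin : μ P < ⊤ := (ZSpan.fundamentalDomain_isBounded b).measure_lt_top
  haveI : Fact (μ P < ⊤) := ⟨hPfin⟩
  set V := μ.real P with hV
  have hV0 : V ≠ 0 := (ENNReal.toReal_pos (ZSpan.measure_fundamentalDomain_ne_zero b) hPfin.ne).ne'
  let out : Set E := {y | 1 < ‖y‖}
  have houtm : MeasurableSet out := measurableSet_lt measurable_const measurable_norm
  -- the discrepancies
  let wv : Λ → E → ℝ := fun v x => out.indicator W.w ((v : E) + x)
  let D : Λ → ℂ → ℂ := fun v s =>
    W.F s v - (V : ℂ)⁻¹ * ∫ x in P, (wv v x : ℂ) * cexp (-s * (W.l ((v : E) + x) : ℂ)) ∂μ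
  have hwv : ∀ (v : Λ) (s : ℂ) (x : E), (wv v x : ℂ) * cexp (-s * (W.l ((v : E) + x) : ℂ)) =
      out.indicator (W.F s) ((v : E) + x) := fun v s x => by
    by_cases h : (v : E) + x ∈ out <;> simp [wv, h, ConeWeight.F]
  have hDd : ∀ v, Differentiable ℂ (D v) := fun v => by
    refine Differentiable.sub ?_ (Differentiable.const_mul ?_ _)
    · show Differentiable ℂ fun s => (W.w (v : E) : ℂ) * cexp (-s * (W.l (v : E) : ℂ)); fun_prop
    refine differentiable_integral_exp (μ.restrict P) (wv v) (fun x => W.l ((v : E) + x))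
      ((W.w_meas.indicator houtm).comp (measurable_const_add _)) (W.l_meas.comp (measurable_const_add _))
      (fun x => ?_) (B := A + d * Real.log (‖(v : E)‖ + R + 1)) ?_
    · simp only [wv]
      by_cases h : (v : E) + x ∈ out
      · rw [Set.indicator_of_mem h]; exact W.w_le _
      · rw [Set.indicator_of_notMem h, abs_zero]; exact zero_le_one
    · refine (ae_restrict_iff' hPm).2 (ae_of_all _ fun x hx hne => ?_)
      have h : (v : E) + x ∈ out := Set.mem_of_indicator_ne_zero hne
      simp only [wv, Set.indicator_of_mem h] at hne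
      have h1 := hA _ hne
      have h2 : 0 ≤ Real.log ‖(v : E) + x‖ := Real.log_nonneg (le_of_lt h)
      have h3 : Real.log ‖(v : E) + x‖ ≤ Real.log (‖(v : E)‖ + R + 1) :=
        Real.log_le_log (lt_trans zero_lt_one h) (((norm_add_le _ _).trans (add_le_add_right (hPR x hx) _)).trans (le_add_of_nonneg_right zero_le_one))
      have h4 := mul_le_mul_of_nonneg_left h3 hd'.le
      have h5 := mul_nonneg hd'.le h2
      rw [abs_le] at h1 ⊢
      constructor <;> linarith
  -- the sum of the discrepancies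
  set U : Set ℂ := {s | 1 - 1 / (d : ℝ) < s.re} with hU
  let H : ℂ → ℂ := fun s => ∑' v, D v s
  have hH : DifferentiableOn ℂ H U := by
    intro s₀ hs₀
    obtain ⟨σ₀, hσ1, hσ2⟩ := exists_between (show 1 - 1 / (d : ℝ) < s₀.re from hs₀)
    set S := ‖s₀‖ + 1
    set U₀ := {s : ℂ | σ₀ < s.re} ∩ Metric.ball 0 S with hU₀
    obtain ⟨K, R₁, hK⟩ := W.exists_sub_le R σ₀ S
    have hexc : {v : Λ | ‖(v : E)‖ < max R₁ (R + 2)}.Finite := by
      refine ((ZSpan.setFinite_inter b (Metric.isBounded_ball (x := (0 : E)) (r := max R₁ (R + 2)))).preimage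
        (Set.injOn_of_injective Subtype.val_injective)).subset fun v hv => ?_
      exact ⟨mem_ball_zero_iff.2 hv, v.2⟩
    have hM : ∀ v : Λ, ∃ M, ∀ s ∈ U₀, ‖D v s‖ ≤ M := fun v => by
      obtain ⟨M, hM⟩ := (isCompact_closedBall (0 : ℂ) S).exists_bound_of_continuousOn (hDd v).continuous.continuousOn
      exact ⟨M, fun s hs => hM s (Metric.ball_subset_closedBall hs.2)⟩
    choose M hM using hM
    let u : Λ → ℝ := fun v => if v ∈ hexc.toFinset then M v else K * ‖(v : E)‖ ^ (-(d * σ₀ + 1))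
    have hu : Summable u := by
      refine ((hsum (d * σ₀ + 1) ?_).mul_left K).congr_cofinite ?_
      · have : (d : ℝ) * (1 - 1 / d) < d * σ₀ := mul_lt_mul_of_pos_left hσ1 hd'
        rw [mul_sub, mul_one, mul_one_div, div_self hd'.ne'] at this
        linarith
      · filter_upwards [hexc.eventually_cofinite_notMem] with v hv
        exact (if_neg fun h => hv (hexc.mem_toFinset.1 h)).symm
    have hle : ∀ v, ∀ s ∈ U₀, ‖D v s‖ ≤ u v := fun v s hs => by
      simp only [u]
      split_ifs with hv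
      · exact hM v s hs
      rw [Set.Finite.mem_toFinset, Set.mem_setOf_eq, not_lt, max_le_iff] at hv
      have hout : ∀ x ∈ P, (v : E) + x ∈ out := fun x hx => by
        show 1 < ‖(v : E) + x‖
        have := norm_sub_norm_le (v : E) (-x)
        rw [sub_neg_eq_add, norm_neg] at this
        linarith [hPR x hx, hv.2]
      set B := K * ‖(v : E)‖ ^ (-(d * σ₀ + 1))
      have hb : ∀ x ∈ P, ‖W.F s v - W.F s ((v : E) + x)‖ ≤ B := fun x hx =>
        hK s hs.1.le (mem_ball_zero_iff.1 hs.2).le _ _ hv.1 (by simpa using hPR x hx)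
      have hint : IntegrableOn (fun x => W.F s ((v : E) + x)) P μ := by
        refine IntegrableOn.of_bound hPfin
          ((W.measurable_F s).comp (measurable_const_add _)).aestronglyMeasurable
          (‖W.F s v‖ + B) ((ae_restrict_iff' hPm).2 (ae_of_all _ fun x hx => ?_))
        refine (norm_le_norm_add_norm_sub' _ (W.F s v)).trans ?_
        rw [norm_sub_rev]
        exact add_le_add le_rfl (hb x hx)
      have e : D v s = (V : ℂ)⁻¹ * ∫ x in P, (W.F s v - W.F s ((v : E) + x)) ∂μ := by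
        simp only [D]
        rw [setIntegral_congr_fun hPm (fun x hx => (hwv v s x).trans (Set.indicator_of_mem (hout x hx) _)),
          integral_sub (integrableOn_const (C := W.F s v) hPfin.ne ENNReal.coe_ne_top) hint, setIntegral_const, mul_sub, ← hV, real_smul,
          inv_mul_cancel_left₀ (ofReal_ne_zero.2 hV0)]
      rw [e, norm_mul, norm_inv, norm_real, Real.norm_eq_abs]
      refine (mul_le_mul_of_nonneg_left (norm_setIntegral_le_of_norm_le_const hPfin hb) (by positivity)).trans ?_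
      rw [← hV, abs_of_nonneg (measureReal_nonneg (μ := μ) (s := P)), mul_comm B, inv_mul_cancel_left₀ hV0]
    have hopen : IsOpen U₀ := (isOpen_lt continuous_const continuous_re).inter Metric.isOpen_ball
    have hd2 := differentiableOn_tsum_of_summable_norm hu (fun v => (hDd v).differentiableOn) hopen hle
    exact (hd2.differentiableAt (hopen.mem_nhds ⟨hσ2, mem_ball_zero_iff.2 (by simp [S])⟩)).differentiableWithinAt
  -- the integral
  let Aint : ℝ → ℂ → ℂ := fun c s => ∫ y in {y : E | 1 < ‖y‖ ∧ ‖y‖ ≤ c}, W.F s y ∂μ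
  have hAd : ∀ c, Differentiable ℂ (Aint c) := fun c => by
    have hfin : μ {y : E | 1 < ‖y‖ ∧ ‖y‖ ≤ c} < ⊤ :=
      ((Metric.isBounded_closedBall (x := (0 : E)) (r := c)).subset fun y hy => mem_closedBall_zero_iff.2 hy.2).measure_lt_top
    haveI : Fact (μ {y : E | 1 < ‖y‖ ∧ ‖y‖ ≤ c} < ⊤) := ⟨hfin⟩
    refine differentiable_integral_exp _ W.w W.l W.w_meas W.l_meas W.w_le (B := A + d * |Real.log c|) ?_
    refine (ae_restrict_iff' (houtm.inter (measurableSet_le measurable_norm measurable_const))).2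
      (ae_of_all _ fun y hy hne => ?_)
    have h1 := hA y hne
    have h2 : 0 ≤ (d : ℝ) * Real.log ‖y‖ := mul_nonneg hd'.le (Real.log_nonneg hy.1.le)
    have h3 : (d : ℝ) * Real.log ‖y‖ ≤ d * |Real.log c| := mul_le_mul_of_nonneg_left
      ((Real.log_le_log (lt_trans zero_lt_one hy.1) hy.2).trans (le_abs_self _)) hd'.le
    rw [abs_le] at h1 ⊢
    constructor <;> linarith
  have hFint : ∀ s : ℂ, 1 < s.re → Integrable (out.indicator (W.F s)) μ := fun s hs => by
    have hr : (d : ℝ) < d * s.re := lt_mul_of_one_lt_right hd' hs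
    refine Integrable.mono' ((integrable_one_add_norm (μ := μ) hr).const_mul
      (Real.exp (|s.re| * A) * 2 ^ (d * s.re))) ((W.measurable_F s).indicator houtm).aestronglyMeasurable
      (ae_of_all _ fun y => ?_)
    by_cases hy : y ∈ out
    · rw [Set.indicator_of_mem hy]
      refine (W.norm_F_le hA s y).trans ?_
      rw [mul_assoc]
      refine mul_le_mul_of_nonneg_left ?_ (Real.exp_nonneg _)
      have hy1 : 1 < ‖y‖ := hy
      rw [Real.rpow_neg (norm_nonneg _), Real.rpow_neg (by positivity), ← div_eq_mul_inv, ← hd,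
        le_div_iff₀ (by positivity), ← div_eq_inv_mul, div_le_iff₀ (by positivity),
        ← Real.mul_rpow zero_le_two (norm_nonneg _)]
      exact Real.rpow_le_rpow (by positivity) (by linarith) (by linarith)
    · rw [Set.indicator_of_notMem hy, norm_zero]; positivity
  let Iint : ℂ → ℂ := fun s => ∫ y, out.indicator (W.F s) y ∂μ
  have hscale : ∀ c : ℝ, 1 < c → ∀ s : ℂ, 1 < s.re →
      phi (d * Real.log c) s * ((s - 1) * Iint s) = Aint c s := by
    intro c hc s hs
    have hc0 : 0 < c := by linarith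
    have hI : Iint s = ∫ y in out, W.F s y ∂μ := integral_indicator houtm
    have hint : IntegrableOn (W.F s) out μ := (integrable_indicator_iff houtm).1 (hFint s hs)
    set far : Set E := {y | c < ‖y‖}
    have hsplit : out = {y : E | 1 < ‖y‖ ∧ ‖y‖ ≤ c} ∪ far := by
      ext y
      simp only [out, far, Set.mem_union, Set.mem_setOf_eq]
      refine ⟨fun h => ?_, fun h => h.elim And.left fun h => hc.trans h⟩
      exact (le_or_gt ‖y‖ c).imp (fun h' => ⟨h, h'⟩) id
    have hfar : ∫ y in far, W.F s y ∂μ = cexp (-(((d : ℝ) * Real.log c : ℝ) : ℂ) * (s - 1)) * ∫ y in out, W.F s y ∂μ := by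
      have hco : c • out = far := by
        ext y
        rw [Set.mem_smul_set_iff_inv_smul_mem₀ hc0.ne']
        simp only [out, far, Set.mem_setOf_eq, norm_smul, norm_inv, Real.norm_eq_abs, abs_of_pos hc0,
          ← div_eq_inv_mul, one_lt_div hc0]
      have h := Measure.setIntegral_comp_smul_of_pos μ (W.F s) out hc0
      rw [hco, eq_inv_smul_iff₀ (pow_ne_zero _ hc0.ne')] at h
      rw [← h, ← hd, real_smul, ← integral_const_mul, ← integral_const_mul]
      refine integral_congr_ae (ae_of_all _ fun y => ?_)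
      by_cases hw : W.w y = 0
      · simp [ConeWeight.F, W.w_smul c hc0, hw]
      · show _ * W.F s (c • y) = _ * W.F s y
        simp only [ConeWeight.F, W.w_smul c hc0, W.l_smul c hc0 y hw, ← hd]
        have hcd : ((c ^ d : ℝ) : ℂ) = cexp (((d : ℝ) * Real.log c : ℝ) : ℂ) := by
          rw [← ofReal_exp]; congr 1
          rw [← Real.log_pow, Real.exp_log (pow_pos hc0 d)]
        rw [hcd, mul_left_comm (cexp _) ((W.w y : ℂ)), mul_left_comm (cexp _) ((W.w y : ℂ))]
        congr 1
        rw [← Complex.exp_add, ← Complex.exp_add]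
        congr 1
        push_cast
        ring
    have hA2 : Iint s = Aint c s + ∫ y in far, W.F s y ∂μ := by
      rw [hI, hsplit]
      refine setIntegral_union ?_ (measurableSet_lt measurable_const measurable_norm)
        (hint.mono_set (by rw [hsplit]; exact Set.subset_union_left))
        (hint.mono_set (by rw [hsplit]; exact Set.subset_union_right))
      exact Set.disjoint_left.2 fun y hy hy' => absurd hy.2 (not_le.2 hy')
    rw [hfar, ← hI] at hA2
    rw [← mul_assoc, mul_comm (phi _ s), sub_one_mul_phi, sub_mul, one_mul, sub_eq_iff_eq_add]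
    exact hA2
  -- the main term
  set a₂ := phi (d * Real.log 2) with ha₂
  set a₃ := phi (d * Real.log 3) with ha₃
  let GI : ℂ → ℂ := fun s => if a₂ s ≠ 0 then Aint 2 s / a₂ s else Aint 3 s / a₃ s
  have hcompat : ∀ s, Aint 2 s * a₃ s = Aint 3 s * a₂ s := by
    have h1 : AnalyticOnNhd ℂ (fun s => Aint 2 s * a₃ s) Set.univ :=
      DifferentiableOn.analyticOnNhd ((hAd 2).mul (differentiable_phi _)).differentiableOn isOpen_univ
    have h2 : AnalyticOnNhd ℂ (fun s => Aint 3 s * a₂ s) Set.univ :=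
      DifferentiableOn.analyticOnNhd ((hAd 3).mul (differentiable_phi _)).differentiableOn isOpen_univ
    have heq : (fun s => Aint 2 s * a₃ s) =ᶠ[𝓝 (2 : ℂ)] fun s => Aint 3 s * a₂ s := by
      filter_upwards [(isOpen_lt continuous_const continuous_re).mem_nhds (show (1 : ℝ) < (2 : ℂ).re by norm_num)]
        with s hs
      rw [← hscale 2 one_lt_two s hs, ← hscale 3 (by norm_num) s hs]
      ring
    exact fun s => h1.eqOn_of_preconnected_of_eventuallyEq h2 isPreconnected_univ (Set.mem_univ _) heq (Set.mem_univ s)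
  have hGI : Differentiable ℂ GI := by
    intro s
    by_cases h : a₂ s = 0
    · have h3 : a₃ s ≠ 0 := (phi_ne_zero_or hdim s).resolve_left (not_not.2 h)
      refine (((hAd 3) s).div (differentiable_phi _ s) h3).congr_of_eventuallyEq ?_
      filter_upwards [(differentiable_phi _).continuous.continuousAt.eventually_ne h3] with z hz
      simp only [GI, Pi.div_apply]
      split_ifs with h2
      · rw [div_eq_div_iff h2 hz]; exact hcompat z
      · rfl
    · refine (((hAd 2) s).div (differentiable_phi _ s) h).congr_of_eventuallyEq ?_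
      filter_upwards [(differentiable_phi _).continuous.continuousAt.eventually_ne h] with z hz
      simp only [GI, Pi.div_apply]
      rw [if_pos hz]
  have hGIeq : ∀ s : ℂ, 1 < s.re → GI s = (s - 1) * Iint s := fun s hs => by
    simp only [GI]
    split_ifs with h
    · rw [div_eq_iff h, ← hscale 2 one_lt_two s hs]; ring
    · rw [div_eq_iff ((phi_ne_zero_or hdim s).resolve_left h), ← hscale 3 (by norm_num) s hs]; ring
  refine ⟨fun s => (s - 1) * H s + (V : ℂ)⁻¹ * GI s,
    (((differentiable_id.sub_const 1).differentiableOn).mul hH).add (hGI.const_mul _).differentiableOn, fun s hs => ?_⟩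
  show (s - 1) * H s + (V : ℂ)⁻¹ * GI s = _
  rw [hGIeq s hs, mul_left_comm, ← mul_add]
  congr 1
  -- `∑ F = ∑ D + ∫ / V`
  have hdom : IsAddFundamentalDomain Λ P μ := ZSpan.isAddFundamentalDomain b μ
  have hIsum : HasSum (fun v : Λ => ∫ x in P, out.indicator (W.F s) ((v : E) + x) ∂μ) (Iint s) := by
    have hmeas : ∀ g : Λ, NullMeasurableSet (g +ᵥ P) μ := fun g => hdom.nullMeasurableSet_vadd g
    have h := hdom.integral_eq_tsum' (out.indicator (W.F s)) (hFint s hs)
    have hs' : Summable fun g : Λ => ∫ x in P, out.indicator (W.F s) (-g +ᵥ x) ∂μ := by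
      have h' := hasSum_integral_measure (μ := fun g : Λ => μ.restrict (g +ᵥ P)) (f := out.indicator (W.F s))
        (by rw [hdom.sum_restrict]; exact hFint s hs)
      refine ((Equiv.neg Λ).summable_iff.2 h'.summable).congr fun g => ?_
      show ∫ x in (-g) +ᵥ P, _ ∂μ = _
      rw [← Set.image_vadd]
      exact (measurePreserving_vadd (-g) μ).setIntegral_image_emb (measurableEmbedding_const_vadd (-g)) _ _
    have h2 := hs'.hasSum
    rw [← h] at h2
    refine ((Equiv.neg Λ).hasSum_iff.1 ?_)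
    exact h2
  have hI2 : HasSum (fun v : Λ => (V : ℂ)⁻¹ * ∫ x in P, (wv v x : ℂ) * cexp (-s * (W.l ((v : E) + x) : ℂ)) ∂μ)
      ((V : ℂ)⁻¹ * Iint s) := by
    refine HasSum.mul_left _ (hIsum.congr_fun fun v => ?_)
    simp only [hwv]
  have hF := (hnorm s hs).of_norm.hasSum
  rw [show H s = ∑' v, D v s from rfl, (hF.sub hI2).tsum_eq, sub_add_cancel]

end Groth.Agent.DedekindCont25
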