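import Groth.Agent.Lib.DedekindCont25.LatticeSum
import Mathlib.NumberTheory.NumberField.CanonicalEmbedding.FundamentalCone

/-!
# A Lipschitz weight on the mixed space averaging to one over the units
-/

set_option autoImplicit false

namespace Groth.Agent.DedekindCont25

open NumberField NumberField.InfinitePlace NumberField.mixedEmbedding NumberField.Units
  NumberField.Units.dirichletUnitTheorem Module MeasureTheory
open NumberField.mixedEmbedding.fundamentalCone
open scoped Classical

/-- The tent function. -/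
noncomputable def tent (t : ℝ) : ℝ := max 0 (1 - |t|)

theorem tent_nonneg (t : ℝ) : 0 ≤ tent t := le_max_left _ _
theorem tent_le_one (t : ℝ) : tent t ≤ 1 := max_le zero_le_one (sub_le_self _ (abs_nonneg _))
theorem tent_eq_zero {t : ℝ} (h : 1 ≤ |t|) : tent t = 0 := max_eq_left (by linarith)
theorem abs_lt_of_tent_ne_zero {t : ℝ} (h : tent t ≠ 0) : |t| < 1 := not_le.1 fun h' => h (tent_eq_zero h')

theorem continuous_tent : Continuous tent := continuous_const.max (continuous_const.sub continuous_abs)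

theorem abs_tent_sub (a b : ℝ) : |tent a - tent b| ≤ |a - b| := by
  refine (abs_max_sub_max_le_max 0 (1 - |a|) 0 (1 - |b|)).trans ?_
  rw [sub_zero, abs_zero, max_eq_right (abs_nonneg _), sub_sub_sub_cancel_left, abs_sub_comm a b]
  exact abs_abs_sub_abs_le_abs_sub b a

theorem sum_tent (a : ℝ) : ∑ n ∈ ({-⌊a⌋, -⌊a⌋ - 1} : Finset ℤ), tent (a + n) = 1 := by
  rw [Finset.sum_insert (by simp only [Finset.mem_singleton]; omega), Finset.sum_singleton]
  push_cast
  have h0 := Int.floor_le a
  have h1 := Int.lt_floor_add_one a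
  rw [tent, tent, abs_of_nonneg (by linarith : (0:ℝ) ≤ a + -↑⌊a⌋),
    abs_of_nonpos (by linarith : a + (-↑⌊a⌋ - 1) ≤ 0), max_eq_right (by linarith), max_eq_right (by linarith)]
  ring

theorem tent_eq_zero_of_notMem (a : ℝ) {n : ℤ} (h : n ∉ ({-⌊a⌋, -⌊a⌋ - 1} : Finset ℤ)) : tent (a + n) = 0 := by
  refine tent_eq_zero ?_
  simp only [Finset.mem_insert, Finset.mem_singleton, not_or] at h
  have h0 := Int.floor_le a
  have h1 := Int.lt_floor_add_one a
  rcases lt_or_gt_of_ne h.1 with h2 | h2
  · have h3 : (n : ℝ) ≤ -(⌊a⌋ : ℝ) - 2 := by exact_mod_cast (by omega : n ≤ -⌊a⌋ - 2)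
    exact le_trans (by linarith) (neg_le_abs _)
  · have h3 : -(⌊a⌋ : ℝ) + 1 ≤ n := by exact_mod_cast (by omega : -⌊a⌋ + 1 ≤ n)
    exact le_trans (by linarith) (le_abs_self _)

theorem abs_prod_sub_prod {ι : Type*} (s : Finset ι) {a b : ι → ℝ} (ha : ∀ i, |a i| ≤ 1) (hb : ∀ i, |b i| ≤ 1) :
    |∏ i ∈ s, a i - ∏ i ∈ s, b i| ≤ ∑ i ∈ s, |a i - b i| := by
  classical
  induction s using Finset.induction_on with
  | empty => simp
  | insert j s hj ih =>
    rw [Finset.prod_insert hj, Finset.prod_insert hj, Finset.sum_insert hj]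
    have hp : |∏ i ∈ s, b i| ≤ 1 := by
      rw [Finset.abs_prod]; exact Finset.prod_le_one (fun i _ => abs_nonneg _) fun i _ => hb i
    calc |a j * ∏ i ∈ s, a i - b j * ∏ i ∈ s, b i|
        = |a j * (∏ i ∈ s, a i - ∏ i ∈ s, b i) + (a j - b j) * ∏ i ∈ s, b i| := by congr 1; ring
      _ ≤ |a j| * |∏ i ∈ s, a i - ∏ i ∈ s, b i| + |a j - b j| * |∏ i ∈ s, b i| := by
          rw [← abs_mul, ← abs_mul]; exact abs_add_le _ _
      _ ≤ 1 * ∑ i ∈ s, |a i - b i| + |a j - b j| * 1 :=
          add_le_add (mul_le_mul (ha j) ih (abs_nonneg _) zero_le_one) (mul_le_mul_of_nonneg_left hp (abs_nonneg _))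
      _ = _ := by ring

theorem abs_log_sub_log_le {a b m : ℝ} (hm : 0 < m) (ha : m ≤ a) (hb : m ≤ b) :
    |Real.log a - Real.log b| ≤ |a - b| / m := by
  have key : ∀ a b : ℝ, m ≤ a → m ≤ b → Real.log a - Real.log b ≤ |a - b| / m := fun a b ha hb => by
    have ha0 := hm.trans_le ha
    have hb0 := hm.trans_le hb
    rw [← Real.log_div ha0.ne' hb0.ne']
    refine (Real.log_le_sub_one_of_pos (div_pos ha0 hb0)).trans ?_
    rw [div_sub_one hb0.ne']
    exact (div_le_div_of_nonneg_right (le_abs_self _) hb0.le).trans (div_le_div_of_nonneg_left (abs_nonneg _) hm hb)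
  rw [abs_le]
  exact ⟨by have := key b a hb ha; rw [abs_sub_comm] at this; linarith, key a b ha hb⟩

variable (K : Type*) [Field K] [NumberField K]

/-- The coordinates of `logMap` in the basis of units. -/
noncomputable def coord : logSpace K →L[ℝ] (Fin (rank K) → ℝ) :=
  ((Basis.ofZLatticeBasis ℝ (unitLattice K) (basisUnitLattice K)).equivFunL).toContinuousLinearMap

/-- The weight. -/
noncomputable def unitWeight (x : mixedSpace K) : ℝ :=
  if mixedEmbedding.norm x = 0 then 0 else ∏ i, tent (coord K (logMap x) i)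

variable {K}

theorem norm_ne_zero_of_unitWeight {x : mixedSpace K} (h : unitWeight K x ≠ 0) : mixedEmbedding.norm x ≠ 0 :=
  fun e => h (by simp [unitWeight, e])

theorem abs_prod_tent_le_one {ι : Type*} (s : Finset ι) (f : ι → ℝ) : |∏ i ∈ s, tent (f i)| ≤ 1 := by
  rw [Finset.abs_prod]
  exact Finset.prod_le_one (fun i _ => abs_nonneg _) fun i _ => by
    rw [abs_of_nonneg (tent_nonneg _)]; exact tent_le_one _

theorem normAtPlace_le_norm (w : InfinitePlace K) (x : mixedSpace K) : normAtPlace w x ≤ ‖x‖ := by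
  rw [norm_eq_sup'_normAtPlace]; exact Finset.le_sup' (fun w => normAtPlace w x) (Finset.mem_univ w)

theorem abs_normAtPlace_sub (w : InfinitePlace K) (x y : mixedSpace K) :
    |normAtPlace w x - normAtPlace w y| ≤ ‖x - y‖ := by
  have h1 := normAtPlace_add_le w (x - y) y
  have h2 := normAtPlace_add_le w (y - x) x
  rw [sub_add_cancel] at h1 h2
  have h3 := normAtPlace_le_norm w (x - y)
  have h4 := normAtPlace_le_norm w (y - x)
  rw [norm_sub_rev y x] at h4
  rw [abs_le]; constructor <;> linarith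

theorem log_norm_eq {x : mixedSpace K} (hx : mixedEmbedding.norm x ≠ 0) :
    Real.log (mixedEmbedding.norm x) = ∑ w, (mult w : ℝ) * Real.log (normAtPlace w x) := by
  rw [mixedEmbedding.norm_apply, Real.log_prod fun w _ => pow_ne_zero _ (mixedEmbedding.norm_ne_zero_iff.mp hx w)]
  simp_rw [Real.log_pow]

theorem sum_mult_real : ∑ w : InfinitePlace K, (mult w : ℝ) = finrank ℚ K := by
  exact_mod_cast congrArg (Nat.cast (R := ℝ)) (sum_mult_eq (K := K))

/-- All places are comparable on the support of the weight. -/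
theorem exists_comparable : ∃ M : ℝ, 0 ≤ M ∧ ∀ x : mixedSpace K, unitWeight K x ≠ 0 → ∀ w,
    |Real.log (normAtPlace w x) - Real.log (mixedEmbedding.norm x) * (finrank ℚ K : ℝ)⁻¹| ≤ M := by
  classical
  let B := (basisUnitLattice K).ofZLatticeBasis ℝ (unitLattice K)
  set M₁ := ∑ i, ‖B i‖ with hM₁
  set n : ℝ := (Fintype.card (InfinitePlace K) : ℝ) with hn
  refine ⟨(n + 1) * M₁, by positivity, fun x hx => ?_⟩
  have hN := norm_ne_zero_of_unitWeight hx
  have hco : ∀ i, |coord K (logMap x) i| < 1 := fun i => by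
    refine abs_lt_of_tent_ne_zero fun e => hx ?_
    rw [unitWeight, if_neg hN]
    exact Finset.prod_eq_zero (Finset.mem_univ i) e
  have hle : ‖logMap x‖ ≤ M₁ := by
    conv_lhs => rw [← B.sum_equivFun (logMap x)]
    refine (norm_sum_le _ _).trans (Finset.sum_le_sum fun i _ => ?_)
    rw [_root_.norm_smul, Real.norm_eq_abs]
    exact mul_le_of_le_one_left (norm_nonneg _) (hco i).le
  set L := Real.log (mixedEmbedding.norm x) * (finrank ℚ K : ℝ)⁻¹
  have hne : ∀ w, w ≠ w₀ → |(mult w : ℝ) * (Real.log (normAtPlace w x) - L)| ≤ M₁ := fun w hw => by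
    have := (norm_le_pi_norm (logMap x) ⟨w, hw⟩).trans hle
    rwa [Real.norm_eq_abs, logMap_apply] at this
  have hzero : ∑ w, (mult w : ℝ) * (Real.log (normAtPlace w x) - L) = 0 := by
    simp_rw [mul_sub]
    rw [Finset.sum_sub_distrib, ← log_norm_eq hN, ← Finset.sum_mul, sum_mult_real, mul_comm (finrank ℚ K : ℝ),
      inv_mul_cancel_right₀ (Nat.cast_ne_zero.2 finrank_pos.ne'), sub_self]
  have hall : ∀ w, |(mult w : ℝ) * (Real.log (normAtPlace w x) - L)| ≤ (n + 1) * M₁ := fun w => by
    have hM0 : 0 ≤ M₁ := (norm_nonneg _).trans hle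
    by_cases hw : w = w₀
    · rw [← Finset.add_sum_erase _ _ (Finset.mem_univ w), add_eq_zero_iff_eq_neg] at hzero
      rw [hzero, abs_neg]
      refine (Finset.abs_sum_le_sum_abs _ _).trans ((Finset.sum_le_sum fun v hv => hne v (by
        rw [← hw]; exact Finset.ne_of_mem_erase hv)).trans ?_)
      rw [Finset.sum_const, nsmul_eq_mul]
      refine mul_le_mul_of_nonneg_right ?_ hM0
      have : ((Finset.univ.erase w).card : ℝ) ≤ n := by rw [hn]; exact_mod_cast Finset.card_le_univ _
      linarith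
    · exact (hne w hw).trans (le_mul_of_one_le_left hM0 (le_add_of_nonneg_left (Nat.cast_nonneg _)))
  intro w
  refine le_trans ?_ (hall w)
  rw [abs_mul]
  exact le_mul_of_one_le_left (abs_nonneg _) (by rw [Nat.abs_cast]; exact_mod_cast one_le_mult)

theorem log_norm_sub_le {M : ℝ} {x : mixedSpace K} (h : ∀ w,
    |Real.log (normAtPlace w x) - Real.log (mixedEmbedding.norm x) * (finrank ℚ K : ℝ)⁻¹| ≤ M) :
    |Real.log ‖x‖ - Real.log (mixedEmbedding.norm x) * (finrank ℚ K : ℝ)⁻¹| ≤ M ∧
      ∀ w, |Real.log (normAtPlace w x) - Real.log ‖x‖| ≤ 2 * M := by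
  classical
  obtain ⟨w₁, -, hw₁⟩ := Finset.exists_mem_eq_sup' (s := (Finset.univ : Finset (InfinitePlace K)))
    Finset.univ_nonempty fun w => normAtPlace w x
  have e : ‖x‖ = normAtPlace w₁ x := (norm_eq_sup'_normAtPlace x).trans hw₁
  rw [e]
  refine ⟨h w₁, fun w => ?_⟩
  have h1 := h w
  have h2 := h w₁
  rw [abs_le] at h1 h2 ⊢
  constructor <;> linarith

variable (K) in
/-- The weight as a cone weight. -/
noncomputable def coneWeight : ConeWeight (mixedSpace K) where
  w := unitWeight K
  l x := Real.log (mixedEmbedding.norm x)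
  w_meas := by
    classical
    unfold unitWeight
    refine Measurable.ite (measurableSet_eq_fun (mixedEmbedding.continuous_norm K).measurable measurable_const)
      measurable_const (Finset.measurable_prod _ fun i _ => ?_)
    have h : Measurable (logMap : mixedSpace K → logSpace K) := by
      unfold logMap
      exact measurable_pi_iff.mpr fun w => measurable_const.mul
        ((continuous_normAtPlace _).measurable.log.sub
          ((mixedEmbedding.continuous_norm _).measurable.log.mul measurable_const))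
    exact continuous_tent.measurable.comp
      ((measurable_pi_apply i).comp ((coord K).continuous.measurable.comp h))
  l_meas := (mixedEmbedding.continuous_norm K).measurable.log
  w_le x := by
    unfold unitWeight
    split_ifs
    · simp
    · exact abs_prod_tent_le_one _ _
  w_zero := by simp [unitWeight]
  w_smul c hc x := by
    unfold unitWeight
    rw [mixedEmbedding.norm_smul]
    by_cases hx : mixedEmbedding.norm x = 0
    · simp [hx]
    · rw [if_neg hx, if_neg (mul_ne_zero (pow_ne_zero _ (abs_ne_zero.2 hc.ne')) hx), logMap_real_smul hx hc.ne']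
  l_smul c hc x hx := by
    rw [mixedEmbedding.norm_smul, Real.log_mul (pow_ne_zero _ (abs_ne_zero.2 hc.ne')) (norm_ne_zero_of_unitWeight hx),
      Real.log_pow, abs_of_pos hc, mixedEmbedding.finrank]
  l_bound := by
    obtain ⟨M, hM0, hM⟩ := exists_comparable (K := K)
    refine ⟨finrank ℚ K * M, by positivity, fun x hx => ?_⟩
    have hd : (0 : ℝ) < finrank ℚ K := Nat.cast_pos.2 finrank_pos
    rw [mixedEmbedding.finrank, show Real.log (mixedEmbedding.norm x) - (finrank ℚ K : ℝ) * Real.log ‖x‖ =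
      (finrank ℚ K : ℝ) * (Real.log (mixedEmbedding.norm x) * (finrank ℚ K : ℝ)⁻¹ - Real.log ‖x‖) by
        field_simp, abs_mul, abs_of_pos hd, abs_sub_comm]
    exact mul_le_mul_of_nonneg_left (log_norm_sub_le (hM x hx)).1 hd.le
  lip R := by
    classical
    obtain ⟨M, hM0, hM⟩ := exists_comparable (K := K)
    set d : ℝ := (finrank ℚ K : ℝ) with hd'
    have hd : (0 : ℝ) < d := Nat.cast_pos.2 finrank_pos
    set κ := Real.exp (2 * M) with hκ
    have hκ0 : 0 < κ := Real.exp_pos _
    set C := 2 * |R| * κ with hC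
    set c₀ : ℝ := ‖coord K‖
    refine ⟨max (rank K * (c₀ * (4 * C))) (d * C), C + 1, le_max_of_le_right (by positivity), fun x y hx hwx hxy => ?_⟩
    have hC0 : 0 ≤ C := by positivity
    have hx0 : 0 < ‖x‖ := by linarith
    have hR : ‖x - y‖ ≤ |R| := hxy.trans (le_abs_self R)
    have hNx := norm_ne_zero_of_unitWeight hwx
    obtain ⟨-, hcmp⟩ := log_norm_sub_le (hM x hwx)
    have hlow : ∀ w, ‖x‖ / κ ≤ normAtPlace w x := fun w => by
      have hp : 0 < normAtPlace w x :=
        lt_of_le_of_ne (normAtPlace_nonneg _ _) (mixedEmbedding.norm_ne_zero_iff.mp hNx w).symm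
      rw [← Real.log_le_log_iff (by positivity) hp, Real.log_div hx0.ne' hκ0.ne', hκ, Real.log_exp]
      have := hcmp w
      rw [abs_le] at this; linarith
    have hm : 0 < ‖x‖ / (2 * κ) := by positivity
    have hlow' : ∀ w, ‖x‖ / (2 * κ) ≤ normAtPlace w x ∧ ‖x‖ / (2 * κ) ≤ normAtPlace w y := fun w => by
      have h1 := hlow w
      have h2 := (abs_le.1 (abs_normAtPlace_sub w x y)).2
      have h3 : ‖x‖ / (2 * κ) + ‖x‖ / (2 * κ) = ‖x‖ / κ := by field_simp; ring
      have h4 : |R| ≤ ‖x‖ / (2 * κ) := by rw [le_div_iff₀ (by positivity)]; linarith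
      constructor <;> linarith
    have hNy : mixedEmbedding.norm y ≠ 0 :=
      mixedEmbedding.norm_ne_zero_iff.mpr fun w => (hm.trans_le (hlow' w).2).ne'
    have hδ : ∀ w, |Real.log (normAtPlace w x) - Real.log (normAtPlace w y)| ≤ C / ‖x‖ := fun w => by
      refine (abs_log_sub_log_le hm (hlow' w).1 (hlow' w).2).trans ?_
      refine (div_le_div_of_nonneg_right ((abs_normAtPlace_sub w x y).trans hR) hm.le).trans (le_of_eq ?_)
      rw [hC]; field_simp
    have hl : |Real.log (mixedEmbedding.norm x) - Real.log (mixedEmbedding.norm y)| ≤ d * (C / ‖x‖) := by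
      rw [log_norm_eq hNx, log_norm_eq hNy, ← Finset.sum_sub_distrib, hd', ← sum_mult_real, Finset.sum_mul]
      refine (Finset.abs_sum_le_sum_abs _ _).trans (Finset.sum_le_sum fun w _ => ?_)
      rw [← mul_sub, abs_mul, Nat.abs_cast]
      exact mul_le_mul_of_nonneg_left (hδ w) (Nat.cast_nonneg _)
    refine ⟨?_, hl.trans ?_⟩
    · have hlm : ‖logMap x - logMap y‖ ≤ 4 * (C / ‖x‖) := (pi_norm_le_iff_of_nonneg (by positivity)).2 fun w => by
        rw [Pi.sub_apply, Real.norm_eq_abs, logMap_apply, logMap_apply, ← mul_sub, abs_mul, Nat.abs_cast]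
        have hmult : (mult w.1 : ℝ) ≤ 2 := by unfold mult; split_ifs <;> norm_num
        have h1 := hδ w.1
        have h2 : |Real.log (mixedEmbedding.norm x) * d⁻¹ - Real.log (mixedEmbedding.norm y) * d⁻¹| ≤ C / ‖x‖ := by
          rw [← sub_mul, abs_mul, abs_inv, abs_of_pos hd, ← div_eq_mul_inv, div_le_iff₀ hd, mul_comm (C / ‖x‖)]
          exact hl
        calc (mult w.1 : ℝ) * |Real.log (normAtPlace w.1 x) - Real.log (mixedEmbedding.norm x) * d⁻¹ -
              (Real.log (normAtPlace w.1 y) - Real.log (mixedEmbedding.norm y) * d⁻¹)|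
            ≤ 2 * (C / ‖x‖ + C / ‖x‖) := by
              refine mul_le_mul hmult ?_ (abs_nonneg _) zero_le_two
              rw [abs_le] at h1 h2 ⊢; constructor <;> linarith
          _ = _ := by ring
      rw [unitWeight, if_neg hNx, unitWeight, if_neg hNy]
      refine (abs_prod_sub_prod _ (fun i => by rw [abs_of_nonneg (tent_nonneg _)]; exact tent_le_one _)
        (fun i => by rw [abs_of_nonneg (tent_nonneg _)]; exact tent_le_one _)).trans ?_
      refine le_trans (Finset.sum_le_card_nsmul _ _ (c₀ * (4 * (C / ‖x‖))) fun i _ => ?_) ?_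
      · refine (abs_tent_sub _ _).trans ?_
        rw [← Pi.sub_apply, ← map_sub, ← Real.norm_eq_abs]
        exact ((norm_le_pi_norm _ i).trans ((coord K).le_opNorm _)).trans
          (mul_le_mul_of_nonneg_left hlm (norm_nonneg _))
      · rw [Finset.card_univ, Fintype.card_fin, nsmul_eq_mul]
        calc (rank K : ℝ) * (c₀ * (4 * (C / ‖x‖))) = rank K * (c₀ * (4 * C)) / ‖x‖ := by ring
          _ ≤ _ := div_le_div_of_nonneg_right (le_max_left _ _) hx0.le
    · rw [← mul_div_assoc]; exact div_le_div_of_nonneg_right (le_max_right _ _) hx0.le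

/-- The weight averages to the number of roots of unity over the units. -/
theorem hasSum_unitWeight {x : mixedSpace K} (hx : mixedEmbedding.norm x ≠ 0) :
    HasSum (fun u : (𝓞 K)ˣ => unitWeight K (u • x)) (torsionOrder K : ℝ) := by
  classical
  let Θ : torsion K × (Fin (rank K) → ℤ) → (𝓞 K)ˣ := fun ζe => ζe.1 * ∏ i, (fundSystem K i) ^ (ζe.2 i)
  have hΘ : Function.Bijective Θ := by
    refine ⟨fun a b h => ?_, fun u => ?_⟩
    · exact (exist_unique_eq_mul_prod K (Θ a)).unique rfl h
    · obtain ⟨ζe, h, -⟩ := exist_unique_eq_mul_prod K u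
      exact ⟨ζe, h.symm⟩
  rw [← (Equiv.ofBijective Θ hΘ).hasSum_iff]
  have hval : ∀ ζe, unitWeight K (Θ ζe • x) = ∏ i, tent (coord K (logMap x) i + ζe.2 i) := by
    rintro ⟨ζ, e⟩
    have hne : mixedEmbedding.norm (Θ (ζ, e) • x) ≠ 0 := by rwa [norm_unit_smul]
    rw [unitWeight, if_neg hne, logMap_unit_smul _ hx]
    refine Finset.prod_congr rfl fun i _ => congrArg tent ?_
    simp only [Θ, ofMul_mul, map_add, ofMul_prod, ofMul_zpow, map_sum, map_zsmul, logEmbedding_fundSystem,
      (logEmbedding_eq_zero_iff).mpr ζ.2, map_zero, zero_add, Pi.add_apply, Finset.sum_apply, Pi.smul_apply]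
    rw [add_comm]
    congr 1
    have hb : ∀ j, coord K (basisUnitLattice K j : logSpace K) i = if j = i then (1 : ℝ) else 0 := fun j => by
      rw [← (basisUnitLattice K).ofZLatticeBasis_apply ℝ (unitLattice K) j]
      exact Basis.equivFun_self _ _ _
    simp only [hb, zsmul_eq_mul, mul_ite, mul_one, mul_zero, Finset.sum_ite_eq', Finset.mem_univ, if_true]
  simp only [Function.comp_def, Equiv.ofBijective_apply, hval]
  letI := Fintype.ofFinite (torsion K)
  let S := (Finset.univ : Finset (torsion K)) ×ˢ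
    Fintype.piFinset fun i => ({-⌊coord K (logMap x) i⌋, -⌊coord K (logMap x) i⌋ - 1} : Finset ℤ)
  have h0 : ∀ ζe ∉ S, ∏ i, tent (coord K (logMap x) i + (ζe.2 i : ℤ)) = 0 := fun ζe h => by
    simp only [S, Finset.mem_product, Finset.mem_univ, true_and, Fintype.mem_piFinset, not_forall] at h
    obtain ⟨i, hi⟩ := h
    exact Finset.prod_eq_zero (Finset.mem_univ i) (tent_eq_zero_of_notMem _ hi)
  have h : HasSum (fun ζe : torsion K × (Fin (rank K) → ℤ) =>
    ∏ i, tent (coord K (logMap x) i + (ζe.2 i : ℤ))) (∑ ζe ∈ S, ∏ i, tent (coord K (logMap x) i + (ζe.2 i : ℤ))) :=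
    hasSum_sum_of_ne_finset_zero h0
  rw [Finset.sum_product] at h
  simp only [← Finset.prod_univ_sum (f := fun i (n : ℤ) => tent (coord K (logMap x) i + n)), sum_tent,
    Finset.prod_const_one, Finset.sum_const, Finset.card_univ, nsmul_eq_mul, mul_one] at h
  rw [torsionOrder, Nat.card_eq_fintype_card]
  exact h

end Groth.Agent.DedekindCont25
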